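import Groth.Agent.H21Fan.Lattice
import Mathlib.Topology.Algebra.Module.FiniteDimension
import Mathlib.Analysis.Normed.Group.Constructions
import Mathlib.Analysis.SpecificLimits.Basic
import Mathlib.CategoryTheory.Limits.Types.Pullbacks

/-!
# Points of the projective realization of a formal fan
-/

universe u

namespace Groth.Agent.H21Fan

open CategoryTheory Opposite Instab Finset Limits

variable {F G F' : Fan.{u}} {k l n : ICone}

lemma orth_ext {v w : Fan.Orth n} (h : v.1 = w.1) : v = w := Subtype.ext h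

lemma continuous_orthVal : Continuous fun v : Fan.Orth n => v.1 := continuous_subtype_val

lemma continuous_mk (ξ : F.obj (op n)) : Continuous (Fan.P.mk ξ) := by
  have : Continuous fun v : Fan.Orth n => (⟨⟨n, ξ⟩, v⟩ : Fan.Pt F) :=
    continuous_sigmaMk (σ := fun e : (Σ n : ICone, F.obj (op n)) => Fan.Orth e.1) (i := ⟨n, ξ⟩)
  exact continuous_quot_mk.comp this

lemma mk_eq_of_smul (ξ : F.obj (op n)) {v w : Fan.Orth n} {c : ℝ} (hc : 0 < c)
    (h : w.1 = c • v.1) : Fan.P.mk ξ v = Fan.P.mk ξ w := by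
  have key : F.map (𝟙 n : n ⟶ n).op ξ = ξ := by simp
  have := Quot.sound (Fan.Rel.glue (F := F) (𝟙 n) ξ v w c hc (by rw [realMap_id]; exact h))
  rw [key] at this
  exact this

lemma mk_map (φ : k ⟶ n) (ξ : F.obj (op n)) (v : Fan.Orth k) :
    Fan.P.mk (F.map φ.op ξ) v = Fan.P.mk ξ (orthMap φ v) :=
  Quot.sound (Fan.Rel.glue (F := F) φ ξ v (orthMap φ v) 1 one_pos (one_smul ℝ _).symm)

lemma mk_map_eq (φ : k ⟶ n) (ξ : F.obj (op n)) (v : Fan.Orth k) (w : Fan.Orth n) {c : ℝ}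
    (hc : 0 < c) (h : w.1 = c • φ.realMap v.1) : Fan.P.mk (F.map φ.op ξ) v = Fan.P.mk ξ w :=
  Quot.sound (Fan.Rel.glue (F := F) φ ξ v w c hc h)

lemma exists_mk (x : Fan.P F) : ∃ (n : ICone) (ξ : F.obj (op n)) (v : Fan.Orth n), x = Fan.P.mk ξ v := by
  obtain ⟨⟨⟨n, ξ⟩, v⟩, rfl⟩ := Quot.exists_rep x
  exact ⟨n, ξ, v, rfl⟩

@[simp] lemma map_mk (f : F ⟶ G) (ξ : F.obj (op n)) (v : Fan.Orth n) :
    Fan.P.map f (Fan.P.mk ξ v) = Fan.P.mk (f.app (op n) ξ) v := rfl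

lemma map_comp {H : Fan.{u}} (f : F ⟶ G) (g : G ⟶ H) (x : Fan.P F) :
    Fan.P.map (f ≫ g) x = Fan.P.map g (Fan.P.map f x) := by
  obtain ⟨n, ξ, v, rfl⟩ := exists_mk x
  rfl

lemma continuous_map (f : F ⟶ G) : Continuous (Fan.P.map f) := by
  refine isQuotientMap_quot_mk.continuous_iff.mpr (continuous_sigma fun e => ?_)
  exact continuous_mk (f.app (op e.1) e.2)

lemma naturality_apply' (f : F ⟶ G) (φ : k ⟶ n) (ξ : F.obj (op n)) :
    f.app (op k) (F.map φ.op ξ) = G.map φ.op (f.app (op n) ξ) :=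
  NatTrans.naturality_apply f φ.op ξ

/-- the relation "common sub-cone" between points of the disjoint union -/
def Com (p q : Fan.Pt F) : Prop :=
  ∃ (k : ICone) (φ₁ : k ⟶ p.1.1) (φ₂ : k ⟶ q.1.1) (y : Fan.Orth k) (c : ℝ),
    F.map φ₁.op p.1.2 = F.map φ₂.op q.1.2 ∧ 0 < c ∧
      φ₁.realMap y.1 = p.2.1 ∧ φ₂.realMap y.1 = c • q.2.1

lemma com_symm {p q : Fan.Pt F} (h : Com p q) : Com q p := by
  obtain ⟨k, φ₁, φ₂, y, c, he, hc, h1, h2⟩ := h
  refine ⟨k, φ₂, φ₁, orthSmul c⁻¹ (inv_pos.mpr hc) y, c⁻¹, he.symm, inv_pos.mpr hc, ?_, ?_⟩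
  · rw [orthSmul, realMap_smul, h2, smul_smul, inv_mul_cancel₀ hc.ne', one_smul]
  · rw [orthSmul, realMap_smul, h1]

lemma com_trans {p q r : Fan.Pt F} (h : Com p q) (h' : Com q r) : Com p r := by
  obtain ⟨k, φ₁, φ₂, y, c, he, hc, h1, h2⟩ := h
  obtain ⟨l, ψ₂, ψ₃, z, d, he', hd, h2', h3⟩ := h'
  obtain ⟨m, χ₁, χ₂, w, hw, hw1, hw2⟩ := exists_common_subcone φ₂.toLin ψ₂.toLin φ₂.injective
    ψ₂.injective y.1 (c • z.1) y.2.1 (fun i => mul_nonneg hc.le (z.2.1 i)) y.2.2 (by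
      rw [← realMap_eq, ← realMap_eq, realMap_smul, h2, h2'])
  have hww : χ₁ ≫ φ₂ = χ₂ ≫ ψ₂ := ICone.Hom.ext hw
  refine ⟨m, χ₁ ≫ φ₁, χ₂ ≫ ψ₃, w, c * d, ?_, mul_pos hc hd, ?_, ?_⟩
  · simp only [op_comp, Functor.map_comp, ConcreteCategory.comp_apply]
    rw [he, ← he']
    have := congrArg (fun ψ : m ⟶ _ => F.map ψ.op q.1.2) hww
    simpa only [op_comp, Functor.map_comp, ConcreteCategory.comp_apply] using this
  · rw [realMap_comp, hw1, h1]
  · rw [realMap_comp, hw2, realMap_smul, h3, smul_smul]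

lemma com_refl (p : Fan.Pt F) : Com p p :=
  ⟨p.1.1, 𝟙 _, 𝟙 _, p.2, 1, rfl, one_pos, realMap_id _, by rw [realMap_id, one_smul]⟩

lemma com_of_mk_eq {σ₁ : F.obj (op k)} {σ₂ : F.obj (op l)} {v₁ : Fan.Orth k} {v₂ : Fan.Orth l}
    (h : Fan.P.mk σ₁ v₁ = Fan.P.mk σ₂ v₂) :
    Com (F := F) ⟨⟨k, σ₁⟩, v₁⟩ ⟨⟨l, σ₂⟩, v₂⟩ := by
  suffices H : ∀ p q : Fan.Pt F, Relation.EqvGen (Fan.Rel F) p q → Com p q from
    H _ _ (Quot.eqvGen_exact (show Quot.mk (Fan.Rel F) ⟨⟨k, σ₁⟩, v₁⟩ = Quot.mk (Fan.Rel F) ⟨⟨l, σ₂⟩, v₂⟩ from h))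
  intro p q h'
  induction h' with
  | rel x y hxy =>
    obtain ⟨φ, ξ, v, w, c, hc, h⟩ := hxy
    refine ⟨_, 𝟙 _, φ, v, c⁻¹, by simp, inv_pos.mpr hc, realMap_id _, ?_⟩
    simp only at h ⊢
    rw [h, smul_smul, inv_mul_cancel₀ hc.ne', one_smul]
  | refl x => exact com_refl x
  | symm x y _ ih => exact com_symm ih
  | trans x y z _ _ ih1 ih2 => exact com_trans ih1 ih2

/-- Points of two cones agree iff they come from a common sub-cone. -/
lemma exists_subcone_of_mk_eq {σ₁ : F.obj (op k)} {σ₂ : F.obj (op l)} {v₁ : Fan.Orth k}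
    {v₂ : Fan.Orth l} (h : Fan.P.mk σ₁ v₁ = Fan.P.mk σ₂ v₂) :
    ∃ (m : ICone) (φ₁ : m ⟶ k) (φ₂ : m ⟶ l) (y : Fan.Orth m) (c : ℝ),
      F.map φ₁.op σ₁ = F.map φ₂.op σ₂ ∧ 0 < c ∧
        φ₁.realMap y.1 = v₁.1 ∧ φ₂.realMap y.1 = c • v₂.1 :=
  com_of_mk_eq h

lemma mk_eq_of_subcone {m : ICone} (φ₁ : m ⟶ k) (φ₂ : m ⟶ l) {σ₁ : F.obj (op k)}
    {σ₂ : F.obj (op l)} (he : F.map φ₁.op σ₁ = F.map φ₂.op σ₂) (y : Fan.Orth m)
    {v₁ : Fan.Orth k} {v₂ : Fan.Orth l} {c₁ c₂ : ℝ} (hc₁ : 0 < c₁) (hc₂ : 0 < c₂)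
    (h₁ : v₁.1 = c₁ • φ₁.realMap y.1) (h₂ : v₂.1 = c₂ • φ₂.realMap y.1) :
    Fan.P.mk σ₁ v₁ = Fan.P.mk σ₂ v₂ := by
  rw [← mk_map_eq φ₁ σ₁ y v₁ hc₁ h₁, he, mk_map_eq φ₂ σ₂ y v₂ hc₂ h₂]

/-! ### cones of representable fans and of fibre products -/

lemma coneMap_app (σ : F.obj (op n)) (φ : k ⟶ n) :
    (Fan.coneMap σ).app (op k) (ULift.up φ) = F.map φ.op σ := rfl

lemma coneMap_comp (f : F ⟶ G) (σ : F.obj (op n)) :
    Fan.coneMap σ ≫ f = Fan.coneMap (f.app (op n) σ) := by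
  ext m ⟨φ⟩
  exact NatTrans.naturality_apply f φ.op σ

lemma coneMap_self (σ : F.obj (op n)) :
    (Fan.coneMap σ).app (op n) (ULift.up (𝟙 n)) = σ := by
  rw [coneMap_app]; simp

/-- the cone of a fibre product given by a compatible pair of cones -/
noncomputable def pbMk (f : F ⟶ G) (g : F' ⟶ G) (a : F.obj (op n)) (b : F'.obj (op n))
    (h : f.app (op n) a = g.app (op n) b) : (pullback f g).obj (op n) :=
  uliftYonedaEquiv.{u} (pullback.lift (Fan.coneMap a) (Fan.coneMap b)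
    (by rw [coneMap_comp, coneMap_comp, h]))

lemma fst_pbMk (f : F ⟶ G) (g : F' ⟶ G) (a : F.obj (op n)) (b : F'.obj (op n))
    (h : f.app (op n) a = g.app (op n) b) :
    (pullback.fst f g).app (op n) (pbMk f g a b h) = a := by
  have := ConcreteCategory.congr_hom (NatTrans.congr_app
    (pullback.lift_fst (f := f) (g := g) (Fan.coneMap a) (Fan.coneMap b) (by rw [coneMap_comp, coneMap_comp, h])) (op n))
    (ULift.up (𝟙 n) : (uliftYoneda.{u}.obj n).obj (op n))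
  exact this.trans (coneMap_self a)

lemma snd_pbMk (f : F ⟶ G) (g : F' ⟶ G) (a : F.obj (op n)) (b : F'.obj (op n))
    (h : f.app (op n) a = g.app (op n) b) :
    (pullback.snd f g).app (op n) (pbMk f g a b h) = b := by
  have := ConcreteCategory.congr_hom (NatTrans.congr_app
    (pullback.lift_snd (f := f) (g := g) (Fan.coneMap a) (Fan.coneMap b) (by rw [coneMap_comp, coneMap_comp, h])) (op n))
    (ULift.up (𝟙 n) : (uliftYoneda.{u}.obj n).obj (op n))
  exact this.trans (coneMap_self b)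

lemma pb_condition (f : F ⟶ G) (g : F' ⟶ G) (z : (pullback f g).obj (op n)) :
    f.app (op n) ((pullback.fst f g).app (op n) z) =
      g.app (op n) ((pullback.snd f g).app (op n) z) :=
  ConcreteCategory.congr_hom (NatTrans.congr_app (pullback.condition (f := f) (g := g)) (op n)) z

lemma pb_ext (f : F ⟶ G) (g : F' ⟶ G) {z z' : (pullback f g).obj (op n)}
    (h1 : (pullback.fst f g).app (op n) z = (pullback.fst f g).app (op n) z')
    (h2 : (pullback.snd f g).app (op n) z = (pullback.snd f g).app (op n) z') : z = z' := by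
  apply (uliftYonedaEquiv.{u}).symm.injective
  change Fan.coneMap z = Fan.coneMap z'
  ext1
  · rw [coneMap_comp, coneMap_comp, h1]
  · rw [coneMap_comp, coneMap_comp, h2]

/-- Surjectivity of `P(F ×_G F') → P F ×_{P G} P F'`. -/
lemma exists_lift (f : F ⟶ G) (g : F' ⟶ G) (x : Fan.P F) (x' : Fan.P F')
    (h : Fan.P.map f x = Fan.P.map g x') :
    ∃ y : Fan.P (pullback f g),
      Fan.P.map (pullback.fst f g) y = x ∧ Fan.P.map (pullback.snd f g) y = x' := by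
  obtain ⟨n₁, a, v, rfl⟩ := exists_mk x
  obtain ⟨n₂, b, w, rfl⟩ := exists_mk x'
  obtain ⟨m, φ₁, φ₂, y, c, he, hc, h1, h2⟩ := exists_subcone_of_mk_eq h
  rw [← naturality_apply', ← naturality_apply'] at he
  refine ⟨Fan.P.mk (pbMk f g _ _ he) y, ?_, ?_⟩
  · rw [map_mk, fst_pbMk]
    exact mk_map_eq φ₁ a y v one_pos (by rw [one_smul, h1])
  · rw [map_mk, snd_pbMk]
    exact mk_map_eq φ₂ b y w (inv_pos.mpr hc)
      (by rw [h2, smul_smul, inv_mul_cancel₀ hc.ne', one_smul])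

/-- the point `v` of the orthant of `h_[n]` -/
noncomputable def repPt (v : Fan.Orth n) : Fan.P (uliftYoneda.{u}.obj n) :=
  Fan.P.mk (F := uliftYoneda.{u}.obj n) (ULift.up (𝟙 n)) v

lemma map_coneMap_repPt (σ : F.obj (op n)) (v : Fan.Orth n) :
    Fan.P.map (Fan.coneMap σ) (repPt v) = Fan.P.mk σ v :=
  congrArg (fun ξ => Fan.P.mk ξ v) (coneMap_self σ)

lemma mk_rep (α : k ⟶ n) (y : Fan.Orth k) :
    Fan.P.mk (F := uliftYoneda.{u}.obj n) (ULift.up α) y = repPt (orthMap α y) :=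
  (congrArg (fun ξ => Fan.P.mk (F := uliftYoneda.{u}.obj n) ξ y)
    (ULift.ext _ _ (Category.comp_id α).symm)).trans
      (mk_map (F := uliftYoneda.{u}.obj n) α (ULift.up (𝟙 n)) y)

lemma exists_repPt (x : Fan.P (uliftYoneda.{u}.obj n)) : ∃ v, x = repPt v := by
  obtain ⟨k, ⟨α⟩, y, rfl⟩ := exists_mk x
  exact ⟨_, mk_rep α y⟩

lemma repPt_eq_iff {v w : Fan.Orth n} :
    (repPt v : Fan.P (uliftYoneda.{u}.obj n)) = repPt w ↔ ∃ c : ℝ, 0 < c ∧ w.1 = c • v.1 := by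
  refine ⟨fun h => ?_, fun ⟨c, hc, h⟩ => mk_eq_of_smul _ hc h⟩
  obtain ⟨m, φ₁, φ₂, y, c, he, hc, h1, h2⟩ := exists_subcone_of_mk_eq h
  have : φ₁ = φ₂ := by
    have := congrArg ULift.down he
    exact (Category.comp_id φ₁).symm.trans (this.trans (Category.comp_id φ₂))
  subst this
  refine ⟨c⁻¹, inv_pos.mpr hc, ?_⟩
  rw [← h1, h2, smul_smul, inv_mul_cancel₀ hc.ne', one_smul]

/-! ### boundedness -/

lemma isBounded_rep (n : ICone) : Fan.IsBounded (uliftYoneda.{u}.obj n) := by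
  refine ⟨{⟨n, ULift.up (𝟙 n)⟩}, fun x => ⟨_, Finset.mem_singleton_self _, ?_⟩⟩
  obtain ⟨v, rfl⟩ := exists_repPt x
  exact ⟨v, rfl⟩

lemma isBounded_of_surjective {ι : Type*} (s : Finset ι) (H : ι → Fan.{u})
    (hH : ∀ i ∈ s, (H i).IsBounded) (π : ∀ i, H i ⟶ F)
    (hsurj : ∀ x : Fan.P F, ∃ i ∈ s, x ∈ Set.range (Fan.P.map (π i))) : F.IsBounded := by
  classical
  choose t ht using hH
  refine ⟨s.attach.biUnion fun i => (t i.1 i.2).image fun e => ⟨e.1, (π i.1).app (op e.1) e.2⟩,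
    fun x => ?_⟩
  obtain ⟨i, hi, y, rfl⟩ := hsurj x
  obtain ⟨e, he, v, rfl⟩ := ht i hi y
  exact ⟨_, Finset.mem_biUnion.mpr ⟨⟨i, hi⟩, Finset.mem_attach _ _,
    Finset.mem_image_of_mem _ he⟩, v, rfl⟩

lemma isBoundedMap_of_isQuasiSeparated (hG : G.IsQuasiSeparated) (hF : F.IsBounded) (f : F ⟶ G) :
    Fan.IsBoundedMap f := by
  obtain ⟨s, hs⟩ := hF
  intro n σ
  let π : ∀ e : (Σ m : ICone, F.obj (op m)),
      pullback (Fan.coneMap (f.app (op e.1) e.2)) (Fan.coneMap σ) ⟶ pullback f (Fan.coneMap σ) :=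
    fun e => pullback.lift (pullback.fst _ _ ≫ Fan.coneMap e.2) (pullback.snd _ _)
      (by rw [Category.assoc, coneMap_comp]; exact pullback.condition)
  refine isBounded_of_surjective s _ (fun e _ => hG _ _ _ _) π fun y => ?_
  obtain ⟨e, he, v, hv⟩ := hs (Fan.P.map (pullback.fst _ _) y)
  refine ⟨e, he, ?_⟩
  obtain ⟨m, z, w, rfl⟩ := exists_mk y
  obtain ⟨p, φ₁, φ₂, u', c, hee, hc, h1, h2⟩ := exists_subcone_of_mk_eq hv
  have hcond : (Fan.coneMap (f.app (op e.1) e.2)).app (op p) (ULift.up φ₁) =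
      (Fan.coneMap σ).app (op p) ((uliftYoneda.{u}.obj n).map φ₂.op
        ((pullback.snd f (Fan.coneMap σ)).app (op m) z)) := by
    rw [coneMap_app, naturality_apply', ← pb_condition, ← naturality_apply', hee, naturality_apply']
  refine ⟨Fan.P.mk (pbMk _ _ _ _ hcond) u', ?_⟩
  rw [map_mk, ← mk_map_eq φ₂ z u' w (inv_pos.mpr hc)
    (by rw [h2, smul_smul, inv_mul_cancel₀ hc.ne', one_smul])]
  congr 1
  refine pb_ext _ _ ?_ ?_
  · rw [naturality_apply', ← hee]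
    have h0 := ConcreteCategory.congr_hom (NatTrans.congr_app
      (pullback.lift_fst (f := f) (g := Fan.coneMap σ)
        (pullback.fst (Fan.coneMap (f.app (op e.1) e.2)) (Fan.coneMap σ) ≫ Fan.coneMap e.2)
        (pullback.snd _ _) (by rw [Category.assoc, coneMap_comp]; exact pullback.condition)) (op p)) (pbMk _ _ _ _ hcond)
    refine h0.trans ?_
    exact (congrArg ((Fan.coneMap e.2).app (op p)) (fst_pbMk _ _ _ _ hcond)).trans (coneMap_app _ _)
  · rw [naturality_apply']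
    have h0 := ConcreteCategory.congr_hom (NatTrans.congr_app
      (pullback.lift_snd (f := f) (g := Fan.coneMap σ)
        (pullback.fst (Fan.coneMap (f.app (op e.1) e.2)) (Fan.coneMap σ) ≫ Fan.coneMap e.2)
        (pullback.snd _ _) (by rw [Category.assoc, coneMap_comp]; exact pullback.condition)) (op p)) (pbMk _ _ _ _ hcond)
    exact h0.trans (snd_pbMk _ _ _ _ hcond)

lemma isBoundedMap_coneMap (hF : F.IsQuasiSeparated) (σ : F.obj (op n)) :
    Fan.IsBoundedMap (Fan.coneMap σ) :=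
  fun _ τ => hF _ _ σ τ

/-! ### closed sets -/

lemma isClosed_iff_mk_preimage {S : Set (Fan.P F)} :
    IsClosed S ↔ ∀ (n : ICone) (ξ : F.obj (op n)), IsClosed (Fan.P.mk ξ ⁻¹' S) := by
  refine isQuotientMap_quot_mk.isClosed_preimage.symm.trans ?_
  exact (isClosed_sigma_iff.trans ⟨fun h n ξ => h ⟨n, ξ⟩, fun h e => h e.1 e.2⟩)

/-- images of closed cones under cone morphisms are closed -/
lemma isClosed_image_cone (φ : k ⟶ n) (C : Set (Fan.Orth k)) (hC : IsClosed C)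
    (hs : ∀ v w : Fan.Orth k, v ∈ C → ∀ c : ℝ, 0 < c → w.1 = c • v.1 → w ∈ C) :
    IsClosed {v : Fan.Orth n | ∃ y ∈ C, ∃ c : ℝ, 0 < c ∧ v.1 = c • φ.realMap y.1} := by
  obtain ⟨D, hD, hDC⟩ := isClosed_induced_iff.mp hC
  have hclosed : IsClosed (φ.realMap '' ((D ∩ {v | ∀ i, 0 ≤ v i}) ∪ {0})) := by
    refine ((realLin φ.toLin).isClosedEmbedding_of_injective
      (LinearMap.ker_eq_bot.mpr (realMap_injective φ))).isClosedMap _ ?_
    refine (hD.inter ?_).union isClosed_singleton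
    rw [Set.ofPred_forall]
    exact isClosed_iInter fun i => isClosed_le continuous_const (continuous_apply i)
  have heq : {v : Fan.Orth n | ∃ y ∈ C, ∃ c : ℝ, 0 < c ∧ v.1 = c • φ.realMap y.1} =
      (fun v : Fan.Orth n => v.1) ⁻¹' (φ.realMap '' ((D ∩ {v | ∀ i, 0 ≤ v i}) ∪ {0})) := by
    ext v
    constructor
    · rintro ⟨y, hy, c, hc, hv⟩
      have := hs y (orthSmul c hc y) hy c hc rfl
      rw [← hDC] at this
      exact ⟨c • y.1, Or.inl ⟨this, (orthSmul c hc y).2.1⟩, by rw [realMap_smul, ← hv]⟩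
    · rintro ⟨w, hw, hwv⟩
      have hw0 : w ≠ 0 := by
        rintro rfl
        exact v.2.2 (hwv.symm.trans (realLin φ.toLin).map_zero)
      rcases hw with ⟨hwD, hwO⟩ | hw
      · refine ⟨⟨w, hwO, hw0⟩, ?_, 1, one_pos, by rw [one_smul]; exact hwv.symm⟩
        rw [← hDC]; exact hwD
      · exact absurd hw hw0
  rw [heq]
  exact hclosed.preimage continuous_orthVal

/-! ### rational points -/

lemma isRational_mk_int (ξ : F.obj (op n)) (q : Fin n.dim → ℤ) (hq : ∀ i, 0 ≤ q i) (hq0 : q ≠ 0)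
    (v : Fan.Orth n) (c : ℝ) (hc : 0 < c) (hv : v.1 = c • castR q) :
    (Fan.P.mk ξ v).IsRational := by
  let φ : Fan.one ⟶ n := ⟨colMap fun _ => q, fun a b hab => by
      funext i
      obtain ⟨l, hl⟩ : ∃ l, q l ≠ 0 := by
        by_contra! h; exact hq0 (funext h)
      have h' := congrFun hab l
      simp only [colMap_apply, Finset.sum_apply, Pi.smul_apply, smul_eq_mul] at h'
      have : ∀ (x : Fin (Fan.one.dim : ℕ) → ℤ), ∑ i', x i' * q l = x i * q l := fun x => by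
        refine Fintype.sum_eq_single i fun i' hi' => ?_
        exact absurd (Subsingleton.elim (α := Fin 1) i' i) hi'
      rw [this, this] at h'
      exact mul_right_cancel₀ hl h',
    fun a ha l => by
      rw [colMap_apply, Finset.sum_apply]
      exact Finset.sum_nonneg fun i _ => mul_nonneg (ha i) (hq l)⟩
  refine ⟨F.map φ.op ξ, ?_⟩
  refine (mk_map_eq φ ξ (Fan.Orth.ones _) v hc (hv.trans ?_)).symm
  congr 1
  refine ((realLin_colMap (fun _ : Fin (Fan.one.dim : ℕ) => q) _).trans ?_).symm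
  exact (Fin.sum_univ_one _).trans (one_smul ℝ _)

lemma exists_int_approx_orth (v : Fan.Orth n) :
    ∃ (q : ℕ → Fin n.dim → ℤ) (hq : ∀ m i, 0 ≤ q m i) (hq0 : ∀ m, castR (q m) ≠ 0),
      Filter.Tendsto
        (fun m : ℕ => orthSmul ((m : ℝ) + 1)⁻¹ (by positivity)
          (⟨castR (q m), fun i => Int.cast_nonneg (hq m i), hq0 m⟩ : Fan.Orth n))
        Filter.atTop (nhds v) := by
  refine ⟨fun m i => ⌈((m : ℝ) + 1) * v.1 i⌉, fun m i => Int.ceil_nonneg (mul_nonneg (by positivity) (v.2.1 i)), fun m h => ?_, ?_⟩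
  · refine v.2.2 (funext fun i => ?_)
    have h0 : ⌈((m : ℝ) + 1) * v.1 i⌉ = 0 := by
      have := congrFun h i
      simpa using this
    have hle := Int.le_ceil (((m : ℝ) + 1) * v.1 i)
    rw [h0, Int.cast_zero] at hle
    exact le_antisymm (nonpos_of_mul_nonpos_right hle (by positivity)) (v.2.1 i)
  · refine tendsto_subtype_rng.mpr (tendsto_pi_nhds.mpr fun i => ?_)
    refine tendsto_of_tendsto_of_tendsto_of_le_of_le (tendsto_const_nhds (x := v.1 i))
      (show Filter.Tendsto (fun m : ℕ => v.1 i + 1 / ((m : ℝ) + 1)) Filter.atTop (nhds (v.1 i)) by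
        simpa using tendsto_one_div_add_atTop_nhds_zero_nat.const_add (v.1 i)) (fun m => ?_) (fun m => ?_)
    · simp only [orthSmul, Pi.smul_apply, castR_apply, smul_eq_mul]
      rw [le_inv_mul_iff₀ (by positivity)]
      exact Int.le_ceil _
    · simp only [orthSmul, Pi.smul_apply, castR_apply, smul_eq_mul]
      rw [inv_mul_le_iff₀ (by positivity)]
      have := (Int.ceil_lt_add_one (((m : ℝ) + 1) * v.1 i)).le
      refine this.trans (le_of_eq ?_)
      field_simp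

/-- a closed set containing the rational points of an orthant is everything -/
lemma mem_of_forall_rational (ξ : F.obj (op n)) {C : Set (Fan.Orth n)} (hC : IsClosed C)
    (h : ∀ v : Fan.Orth n, (Fan.P.mk ξ v).IsRational → v ∈ C) (v : Fan.Orth n) : v ∈ C := by
  obtain ⟨q, hq, hq0, ht⟩ := exists_int_approx_orth v
  refine hC.mem_of_tendsto ht (Filter.Eventually.of_forall fun m => h _ ?_)
  refine isRational_mk_int ξ (q m) (hq m) (fun h0 => hq0 m (by rw [h0, castR_zero])) _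
    ((m : ℝ) + 1)⁻¹ (by positivity) rfl

end Groth.Agent.H21Fan
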