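import Groth.Agent.H21Fan.Basic
import Mathlib.Analysis.Convex.StdSimplex

/-!
# Bounded maps of formal fans and quasi-separated fans
-/

universe u

namespace Groth.Agent.H21Fan

open CategoryTheory Opposite Instab Finset Limits

variable {F G : Fan.{u}} {k l n : ICone}

lemma exists_cover {ψ : F ⟶ G} (hψ : Fan.IsBoundedMap ψ) (ξ : G.obj (op n)) :
    ∃ s : Finset (Σ k : ICone, F.obj (op k) × (k ⟶ n)),
      (∀ e ∈ s, ψ.app (op e.1) e.2.1 = G.map e.2.2.op ξ) ∧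
      ∀ (x : Fan.P F) (v : Fan.Orth n), Fan.P.map ψ x = Fan.P.mk ξ v →
        ∃ e ∈ s, ∃ y : Fan.Orth e.1, x = Fan.P.mk e.2.1 y ∧
          ∃ c : ℝ, 0 < c ∧ v.1 = c • e.2.2.realMap y.1 := by
  classical
  obtain ⟨s, hs⟩ := hψ n ξ
  refine ⟨s.image fun e => ⟨e.1, (pullback.fst ψ (Fan.coneMap ξ)).app (op e.1) e.2,
    ((pullback.snd ψ (Fan.coneMap ξ)).app (op e.1) e.2).down⟩, ?_, ?_⟩
  · intro e he
    obtain ⟨e, -, rfl⟩ := Finset.mem_image.mp he
    exact pb_condition ψ (Fan.coneMap ξ) e.2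
  · intro x v h
    obtain ⟨z, hz1, hz2⟩ := exists_lift ψ (Fan.coneMap ξ) x (repPt v)
      (h.trans (map_coneMap_repPt ξ v).symm)
    obtain ⟨e, he, y, rfl⟩ := hs z
    refine ⟨_, Finset.mem_image_of_mem _ he, y, hz1.symm, ?_⟩
    rw [map_mk] at hz2
    obtain ⟨c, hc, hcv⟩ := repPt_eq_iff.mp ((mk_rep _ y).symm.trans hz2)
    exact ⟨c, hc, hcv⟩

lemma map_eq_of_cover {ψ : F ⟶ G} {ξ : G.obj (op n)} {a : F.obj (op k)} {φ : k ⟶ n}
    (he : ψ.app (op k) a = G.map φ.op ξ) (y : Fan.Orth k) (v : Fan.Orth n) {c : ℝ} (hc : 0 < c)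
    (hv : v.1 = c • φ.realMap y.1) : Fan.P.map ψ (Fan.P.mk a y) = Fan.P.mk ξ v := by
  rw [map_mk, he]
  exact mk_map_eq φ ξ y v hc hv

lemma eq_of_realMap_smul {φ : k ⟶ n} {y y' : Fan.Orth k} {c c' : ℝ} (hc : 0 < c) (hc' : 0 < c')
    (h : c • φ.realMap y.1 = c' • φ.realMap y'.1) (a : F.obj (op k)) :
    Fan.P.mk a y = Fan.P.mk a y' := by
  rw [← realMap_smul, ← realMap_smul] at h
  refine mk_eq_of_smul a (div_pos hc hc') ?_
  rw [div_eq_inv_mul, mul_smul, realMap_injective φ h, smul_smul, inv_mul_cancel₀ hc'.ne', one_smul]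

lemma isClosed_range_cone (φ : k ⟶ n) :
    IsClosed {v : Fan.Orth n | ∃ (y : Fan.Orth k) (c : ℝ), 0 < c ∧ v.1 = c • φ.realMap y.1} := by
  simpa using isClosed_image_cone φ Set.univ isClosed_univ (by simp)

lemma preimage_image_map {ψ : F ⟶ G} (hψ : Fan.IsBoundedMap ψ) (C : Set (Fan.P F))
    (hC : IsClosed C) (ξ : G.obj (op n)) : IsClosed (Fan.P.mk ξ ⁻¹' (Fan.P.map ψ '' C)) := by
  obtain ⟨s, hs, hcov⟩ := exists_cover hψ ξ
  have : Fan.P.mk ξ ⁻¹' (Fan.P.map ψ '' C) = ⋃ e ∈ s,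
      {v : Fan.Orth n | ∃ y ∈ Fan.P.mk e.2.1 ⁻¹' C, ∃ c : ℝ, 0 < c ∧ v.1 = c • e.2.2.realMap y.1} := by
    ext v
    simp only [Set.mem_preimage, Set.mem_image, Set.mem_iUnion, Set.mem_ofPred]
    refine ⟨fun ⟨x, hx, hxv⟩ => ?_, fun ⟨e, he, y, hy, c, hc, hv⟩ =>
      ⟨_, hy, map_eq_of_cover (hs e he) y v hc hv⟩⟩
    obtain ⟨e, he, y, rfl, hy⟩ := hcov x v hxv
    exact ⟨e, he, y, hx, hy⟩
  rw [this]
  refine s.finite_toSet.isClosed_biUnion fun e _ => isClosed_image_cone _ _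
    (hC.preimage (continuous_mk _)) fun v w hv c hc hw => ?_
  rwa [Set.mem_preimage, ← mk_eq_of_smul _ hc hw]

lemma isClosedMap_map {ψ : F ⟶ G} (hψ : Fan.IsBoundedMap ψ) : IsClosedMap (Fan.P.map ψ) :=
  fun C hC => isClosed_iff_mk_preimage.mpr fun _ ξ => preimage_image_map hψ C hC ξ

lemma finite_fiber {ψ : F ⟶ G} (hψ : Fan.IsBoundedMap ψ) (z : Fan.P G) :
    (Fan.P.map ψ ⁻¹' {z}).Finite := by
  obtain ⟨n, ξ, v, rfl⟩ := exists_mk z
  obtain ⟨s, -, hcov⟩ := exists_cover hψ ξ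
  refine Set.Finite.subset (s := ⋃ e ∈ s, {x | ∃ y : Fan.Orth e.1, x = Fan.P.mk e.2.1 y ∧
    ∃ c : ℝ, 0 < c ∧ v.1 = c • e.2.2.realMap y.1}) ?_ ?_
  · refine Set.Finite.biUnion s.finite_toSet fun e _ => Set.Subsingleton.finite ?_
    rintro _ ⟨y, rfl, c, hc, h⟩ _ ⟨y', rfl, c', hc', h'⟩
    exact eq_of_realMap_smul hc hc' (h.symm.trans h') _
  · intro x hx
    obtain ⟨e, he, h⟩ := hcov x v hx
    exact Set.mem_biUnion he h

lemma preimage_range_map {ψ : F ⟶ G} (hψ : Fan.IsBoundedMap ψ) (ξ : G.obj (op n)) :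
    ∃ s : Finset (Σ k : ICone, k ⟶ n),
      {v : Fan.Orth n | Fan.P.mk ξ v ∈ Set.range (Fan.P.map ψ)} =
        ⋃ e ∈ s, {v : Fan.Orth n | ∃ (y : Fan.Orth e.1) (c : ℝ), 0 < c ∧ v.1 = c • e.2.realMap y.1} := by
  classical
  obtain ⟨s, hs, hcov⟩ := exists_cover hψ ξ
  refine ⟨s.image fun e => ⟨e.1, e.2.2⟩, ?_⟩
  ext v
  simp only [Set.mem_ofPred, Set.mem_range, Set.mem_iUnion, Finset.mem_image, exists_prop]
  constructor
  · rintro ⟨x, hx⟩
    obtain ⟨e, he, y, -, c, hc, hv⟩ := hcov x v hx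
    exact ⟨_, ⟨e, he, rfl⟩, y, c, hc, hv⟩
  · rintro ⟨_, ⟨e, he, rfl⟩, y, c, hc, hv⟩
    exact ⟨_, map_eq_of_cover (hs e he) y v hc hv⟩

lemma exists_pairs (hG : G.IsQuasiSeparated) {n n' : ICone} (ξ : G.obj (op n)) (ξ' : G.obj (op n')) :
    ∃ s : Finset (Σ k : ICone, (k ⟶ n) × (k ⟶ n')),
      (∀ e ∈ s, G.map e.2.1.op ξ = G.map e.2.2.op ξ') ∧
      ∀ (v : Fan.Orth n) (w : Fan.Orth n'), Fan.P.mk ξ v = Fan.P.mk ξ' w ↔
        ∃ e ∈ s, ∃ (y : Fan.Orth e.1) (c c' : ℝ), 0 < c ∧ 0 < c' ∧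
          v.1 = c • e.2.1.realMap y.1 ∧ w.1 = c' • e.2.2.realMap y.1 := by
  classical
  obtain ⟨s, hs, hcov⟩ := exists_cover (isBoundedMap_coneMap hG ξ) ξ'
  refine ⟨s.image fun e => ⟨e.1, e.2.1.down, e.2.2⟩, ?_, fun v w => ⟨fun h => ?_, ?_⟩⟩
  · intro e he
    obtain ⟨e', he', rfl⟩ := Finset.mem_image.mp he
    exact hs e' he'
  · obtain ⟨e, he, y, hy, c', hc', hw⟩ := hcov (repPt v) w ((map_coneMap_repPt ξ v).trans h)
    obtain ⟨c, hc, hv⟩ := repPt_eq_iff.mp ((mk_rep e.2.1.down y).symm.trans hy.symm)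
    exact ⟨_, Finset.mem_image_of_mem _ he, y, c, c', hc, hc', hv, hw⟩
  · rintro ⟨e, he, y, c, c', hc, hc', hv, hw⟩
    obtain ⟨e', he', rfl⟩ := Finset.mem_image.mp he
    exact mk_eq_of_subcone _ _ (hs e' he') y hc hc' hv hw

lemma isClosed_image_mk (hF : F.IsQuasiSeparated) (ξ : F.obj (op n)) (S : Set (Fan.Orth n))
    (hS : IsClosed S)
    (hs : ∀ v w : Fan.Orth n, v ∈ S → ∀ c : ℝ, 0 < c → w.1 = c • v.1 → w ∈ S) :
    IsClosed (Fan.P.mk ξ '' S) := by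
  let C : Set (Fan.P (uliftYoneda.{u}.obj n)) := repPt '' S
  have hC : IsClosed C := isClosed_iff_mk_preimage.mpr fun k α => by
    have : Fan.P.mk α ⁻¹' C = orthMap α.down ⁻¹' S := by
      ext y
      simp only [Set.mem_preimage, C, Set.mem_image]
      refine ⟨fun ⟨v, hv, h⟩ => ?_, fun h => ⟨_, h, (mk_rep α.down y).symm⟩⟩
      obtain ⟨c, hc, hcv⟩ := repPt_eq_iff.mp (h.trans (mk_rep α.down y))
      exact hs v _ hv c hc hcv
    rw [this]
    exact hS.preimage (Continuous.subtype_mk ((continuous_realMap α.down).comp continuous_orthVal) _)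
  have := isClosedMap_map (isBoundedMap_coneMap hF ξ) C hC
  rw [Set.image_image] at this
  simpa only [map_coneMap_repPt] using this

lemma isClosed_cell (hF : F.IsQuasiSeparated) (ξ : F.obj (op n)) :
    IsClosed (Fan.P.cell ξ : Set (Fan.P F)) := by
  rw [Fan.P.cell, ← Set.image_univ]
  exact isClosed_image_mk hF ξ _ isClosed_univ (by simp)

lemma t1Space (hF : F.IsQuasiSeparated) : T1Space (Fan.P F) := ⟨fun x => by
  obtain ⟨n, ξ, v, rfl⟩ := exists_mk x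
  have hray : IsClosed {w : Fan.Orth n | ∀ i j, w.1 i * v.1 j = w.1 j * v.1 i} := by
    simp only [Set.ofPred_forall]
    exact isClosed_iInter fun i => isClosed_iInter fun j => isClosed_eq
      (((continuous_apply i).comp continuous_orthVal).mul continuous_const)
      (((continuous_apply j).comp continuous_orthVal).mul continuous_const)
  have hprop : ∀ w : Fan.Orth n, (∀ i j, w.1 i * v.1 j = w.1 j * v.1 i) →
      ∃ c : ℝ, 0 < c ∧ w.1 = c • v.1 := fun w hw => by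
    obtain ⟨j, hj⟩ : ∃ j, v.1 j ≠ 0 := by
      by_contra! h; exact v.2.2 (funext h)
    have he : w.1 = (w.1 j / v.1 j) • v.1 := funext fun i => by
      rw [Pi.smul_apply, smul_eq_mul, div_mul_eq_mul_div, eq_div_iff hj]
      exact hw i j
    refine ⟨_, (div_nonneg (w.2.1 j) (v.2.1 j)).lt_of_ne fun h0 => w.2.2 ?_, he⟩
    rw [he, ← h0, zero_smul]
  convert isClosed_image_mk hF ξ _ hray fun w w' hw c _ hw' i j => ?_
  · ext z
    simp only [Set.mem_singleton_iff, Set.mem_image, Set.mem_ofPred]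
    refine ⟨fun h => ⟨v, fun i j => mul_comm _ _, h.symm⟩, fun ⟨w, hw, h⟩ => ?_⟩
    obtain ⟨c, hc, hcw⟩ := hprop w hw
    rw [← h, mk_eq_of_smul ξ hc hcw]
  · simp only [hw', Pi.smul_apply, smul_eq_mul, mul_assoc, hw i j]⟩

lemma isClosed_iff_inter_cell (hF : F.IsQuasiSeparated) (S : Set (Fan.P F)) :
    IsClosed S ↔ ∀ (n : ICone) (ξ : F.obj (op n)), IsClosed (S ∩ Fan.P.cell ξ) := by
  refine ⟨fun h n ξ => h.inter (isClosed_cell hF ξ), fun h => isClosed_iff_mk_preimage.mpr fun n ξ => ?_⟩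
  have := (h n ξ).preimage (continuous_mk ξ)
  rwa [Set.preimage_inter, Fan.P.cell, Set.preimage_range, Set.inter_univ] at this

lemma exists_smul_ratio {n : ICone} (v : Fan.Orth n) :
    ∃ c : ℝ, 0 < c ∧ ∑ i, (c • v.1) i = 1 := by
  obtain ⟨j, hj⟩ : ∃ j, v.1 j ≠ 0 := by
    by_contra! h; exact v.2.2 (funext h)
  have h0 : 0 < ∑ i, v.1 i :=
    Finset.sum_pos' (fun i _ => v.2.1 i) ⟨j, mem_univ _, (v.2.1 j).lt_of_ne (Ne.symm hj)⟩
  refine ⟨(∑ i, v.1 i)⁻¹, inv_pos.mpr h0, ?_⟩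
  simp only [Pi.smul_apply, smul_eq_mul, ← Finset.mul_sum, inv_mul_cancel₀ h0.ne']

/-- the standard simplex inside the punctured orthant -/
def simplex (n : ICone) : Set (Fan.Orth n) := {v | ∑ i, v.1 i = 1}

lemma isCompact_simplex (n : ICone) : IsCompact (simplex n) := by
  refine Topology.IsInducing.subtypeVal.isCompact_iff.mpr ?_
  convert isCompact_stdSimplex ℝ (Fin n.dim)
  ext w
  constructor
  · rintro ⟨v, hv, rfl⟩
    exact ⟨v.2.1, hv⟩
  · rintro ⟨h0, h1⟩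
    refine ⟨⟨w, h0, fun h => ?_⟩, h1, rfl⟩
    simp [h] at h1

instance (n : ICone) : FirstCountableTopology (Fan.Orth n) :=
  inferInstanceAs (FirstCountableTopology {v : Fin n.dim → ℝ // (∀ i, 0 ≤ v i) ∧ v ≠ 0})

lemma mk_mem_cell_normalized (ξ : F.obj (op n)) {x : Fan.P F} (h : x ∈ Fan.P.cell ξ) :
    ∃ v ∈ simplex n, Fan.P.mk ξ v = x := by
  obtain ⟨v, rfl⟩ := h
  obtain ⟨c, hc, hsum⟩ := exists_smul_ratio v
  exact ⟨orthSmul c hc v, hsum, (mk_eq_of_smul ξ hc rfl).symm⟩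

/-- convergent sequences lift, along a subsequence, to a single cell -/
lemma exists_subseq_lift (hF : F.IsQuasiSeparated) (x : ℕ → Fan.P F) (x₀ : Fan.P F)
    (hx : Filter.Tendsto x Filter.atTop (nhds x₀)) :
    ∃ (n : ICone) (σ : F.obj (op n)) (r : ℕ → ℕ) (v : ℕ → Fan.Orth n) (v₀ : Fan.Orth n),
      StrictMono r ∧ (∀ j, Fan.P.mk σ (v j) = x (r j)) ∧ Fan.P.mk σ v₀ = x₀ ∧
        Filter.Tendsto v Filter.atTop (nhds v₀) := by
  haveI := t1Space hF
  -- some cell contains infinitely many terms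
  obtain ⟨n, σ, hinf⟩ : ∃ (n : ICone) (σ : F.obj (op n)), {j | x j ∈ Fan.P.cell σ}.Infinite := by
    by_contra hno
    push Not at hno
    let T := x '' {j | x j ≠ x₀}
    have hT : IsClosed T := (isClosed_iff_inter_cell hF T).mpr fun n σ => by
      refine (((hno n σ).image x).subset ?_).isClosed
      rintro _ ⟨⟨j, -, rfl⟩, hj⟩
      exact ⟨j, hj, rfl⟩
    have hx₀ : x₀ ∈ Tᶜ := fun ⟨j, hj, hj'⟩ => hj hj'
    have hev : ∀ᶠ j in Filter.atTop, x j = x₀ := by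
      filter_upwards [hx.eventually (hT.isOpen_compl.mem_nhds hx₀)] with j hj
      by_contra h
      exact hj ⟨j, h, rfl⟩
    obtain ⟨n, σ, v, hv⟩ := exists_mk x₀
    obtain ⟨N, hN⟩ := Filter.eventually_atTop.mp hev
    exact (hno n σ).not_infinite
      ((Set.Ici_infinite N).mono fun j hj => ⟨v, (hv.symm.trans (hN j hj).symm)⟩)
  have hfreq : ∃ᶠ j in Filter.atTop, x j ∈ Fan.P.cell σ :=
    Nat.frequently_atTop_iff_infinite.mpr hinf
  obtain ⟨r, hr, hrcell⟩ := Filter.extraction_of_frequently_atTop hfreq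
  choose v hvs hv using fun j => mk_mem_cell_normalized σ (hrcell j)
  obtain ⟨v₀, -, s, hs, hlim⟩ := (isCompact_simplex n).tendsto_subseq hvs
  refine ⟨n, σ, r ∘ s, v ∘ s, v₀, hr.comp hs, fun j => hv _, ?_, hlim⟩
  by_contra hne
  let Z := Fan.P.mk σ ⁻¹' {x₀}
  have hZ : IsClosed Z := isClosed_singleton.preimage (continuous_mk σ)
  obtain ⟨N, hN⟩ := Filter.eventually_atTop.mp
    (hlim.eventually (hZ.isOpen_compl.mem_nhds hne))
  let K : Set (Fan.Orth n) := insert v₀ ((v ∘ s) '' Set.Ici N)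
  have hK : IsCompact K := by
    have h' := (hlim.comp (Filter.tendsto_add_atTop_nat N)).isCompact_insert_range
    have hrg : Set.range (fun a => (v ∘ s) (a + N)) = (v ∘ s) '' Set.Ici N := by
      ext z
      exact ⟨fun ⟨a, ha⟩ => ⟨a + N, Nat.le_add_left _ _, ha⟩, fun ⟨b, hb, hz⟩ =>
        ⟨b - N, by simp only [Nat.sub_add_cancel (Set.mem_Ici.mp hb)]; exact hz⟩⟩
    simp only [K, ← hrg]
    exact h'
  -- the union of the rays through `K` has closed image, missing `x₀`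
  let S : Set (Fan.Orth n) := {w | ∃ c : ℝ, 0 < c ∧ ∃ u ∈ K, w.1 = c • u.1}
  have hKsimp : ∀ u ∈ K, ∑ i, u.1 i = 1 := by
    have hclosed : IsClosed (simplex n) :=
      isClosed_eq (continuous_finsetSum _ fun i _ => (continuous_apply i).comp continuous_orthVal) continuous_const
    rintro u (rfl | ⟨j, -, rfl⟩)
    · exact hclosed.mem_of_tendsto hlim (Filter.Eventually.of_forall fun j => hvs _)
    · exact hvs _
  have hsum : ∀ w : Fan.Orth n, 0 < ∑ i, w.1 i := fun w => by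
    obtain ⟨c, hc, h⟩ := exists_smul_ratio w
    simp only [Pi.smul_apply, smul_eq_mul, ← Finset.mul_sum] at h
    by_contra hle
    nlinarith [mul_nonpos_of_nonneg_of_nonpos hc.le (not_lt.mp hle)]
  have hS : IsClosed S := by
    have hSeq : S = (fun w : Fan.Orth n => (∑ i, w.1 i)⁻¹ • w.1) ⁻¹' ((fun u : Fan.Orth n => u.1) '' K) := by
      ext w
      constructor
      · rintro ⟨c, hc, u, hu, hw⟩
        refine ⟨u, hu, ?_⟩
        have h1 : ∑ i, w.1 i = c := by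
          simp only [hw, Pi.smul_apply, smul_eq_mul, ← Finset.mul_sum, hKsimp u hu, mul_one]
        simp only
        rw [h1, hw, smul_smul, inv_mul_cancel₀ hc.ne', one_smul]
      · rintro ⟨u, hu, hw⟩
        refine ⟨_, hsum w, u, hu, ?_⟩
        simp only at hw
        rw [hw, smul_smul, mul_inv_cancel₀ (hsum w).ne', one_smul]
    rw [hSeq]
    refine (hK.image continuous_orthVal).isClosed.preimage ?_
    have hc1 : Continuous fun w : Fan.Orth n => (∑ i, w.1 i)⁻¹ := (continuous_finsetSum _ fun i _ => (continuous_apply i).comp continuous_orthVal).inv₀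
      fun w => (hsum w).ne'
    exact hc1.smul continuous_orthVal
  have himg : IsClosed (Fan.P.mk σ '' S) := isClosed_image_mk hF σ S hS fun a b ha c hc hb => by
    obtain ⟨d, hd, u, hu, hau⟩ := ha
    exact ⟨c * d, mul_pos hc hd, u, hu, by rw [hb, hau, smul_smul]⟩
  have hmem : x₀ ∈ Fan.P.mk σ '' S := by
    refine himg.mem_of_tendsto (hx.comp (hr.comp hs).tendsto_atTop) ?_
    filter_upwards [Filter.eventually_ge_atTop N] with j hj
    exact ⟨v (s j), ⟨1, one_pos, v (s j), Or.inr ⟨j, hj, rfl⟩, (one_smul ℝ _).symm⟩, hv _⟩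
  obtain ⟨w, ⟨c, hc, u, hu, hw⟩, hw0⟩ := hmem
  rw [← mk_eq_of_smul σ hc hw] at hw0
  rcases hu with rfl | ⟨j, hj, rfl⟩
  · exact hne hw0
  · exact hN j hj hw0

end Groth.Agent.H21Fan
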