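import Mathlib.LinearAlgebra.Matrix.ToLin
import Mathlib.LinearAlgebra.Basis.VectorSpace
import Mathlib.LinearAlgebra.LinearIndependent.Basic
import Mathlib.Topology.Instances.Real.Lemmas
import Mathlib.Data.Fintype.Sum
import Mathlib.Data.Real.Basic
import Mathlib.Algebra.Order.BigOperators.Ring.Finset
import Mathlib.Tactic.Linarith
import Mathlib.Tactic.FieldSimp
import Mathlib.Algebra.Algebra.Rat
import Mathlib.Topology.Algebra.Order.Archimedean
import Mathlib.Analysis.Normed.Group.Basic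

/-!
# Rational polyhedral cones cut out of the orthant by integer equations
-/

namespace Groth.Agent.H21Fan

open Matrix Finset

variable {ι ρ : Type*} [Fintype ι]
set_option linter.unusedSectionVars false

/-- cast of an integer vector -/
def castR (q : ι → ℤ) : ι → ℝ := fun i => (q i : ℝ)

@[simp] lemma castR_apply (q : ι → ℤ) (i : ι) : castR q i = (q i : ℝ) := rfl

lemma castR_zero : castR (0 : ι → ℤ) = 0 := by ext; simp

lemma castR_injective : Function.Injective (castR : (ι → ℤ) → ι → ℝ) := fun a b h =>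
  funext fun i => by simpa using congrFun h i

/-- A real solution of integer linear equations is approximated by rational solutions with no
larger support. -/
lemma exists_rat_solution_near (M : ρ → ι → ℤ) (x : ι → ℝ)
    (hx : ∀ j, ∑ i, (M j i : ℝ) * x i = 0) (ε : ℝ) (hε : 0 < ε) :
    ∃ q : ι → ℚ, (∀ j, ∑ i, (M j i : ℚ) * q i = 0) ∧ (∀ i, x i = 0 → q i = 0) ∧
      ∀ i, |(q i : ℝ) - x i| < ε := by
  classical
  set b := Module.Basis.ofVectorSpace ℚ ℝ
  set K := Finset.univ.biUnion (fun i => (b.repr (x i)).support) with hK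
  have hexp : ∀ i, x i = ∑ k ∈ K, (b.repr (x i) k : ℝ) * b k := fun i => by
    conv_lhs => rw [← b.linearCombination_repr (x i)]
    rw [Finsupp.linearCombination_apply, Finsupp.sum]
    refine (Finset.sum_congr rfl (fun k _ => Rat.smul_def _ _)).trans
      (Finset.sum_subset (fun k hk => Finset.mem_biUnion.mpr ⟨i, mem_univ _, hk⟩)
        (fun k _ hk => by simp [Finsupp.notMem_support_iff.mp hk]))
  have hq : ∀ j k, ∑ i, (M j i : ℚ) * b.repr (x i) k = 0 := fun j k => by
    have h0 : ∑ i, (M j i : ℚ) • x i = 0 := by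
      simpa [Rat.smul_def] using hx j
    have := congrArg (fun z => b.repr z k) h0
    simpa [map_sum, Finsupp.finset_sum_apply] using this
  -- the solution as a function of the finitely many basis values
  let f : (K → ℝ) → (ι → ℝ) := fun r i => ∑ k : K, (b.repr (x i) k : ℝ) * r k
  have hf : Continuous f := by
    refine continuous_pi fun i => continuous_finsetSum _ fun k _ => ?_
    exact continuous_const.mul (continuous_apply k)
  have hopen : IsOpen (f ⁻¹' {y | ∀ i, |y i - x i| < ε}) := by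
    refine hf.isOpen_preimage _ ?_
    simp only [Set.setOf_forall]
    exact isOpen_iInter_of_finite fun i => isOpen_lt (by fun_prop) continuous_const
  have hdense : DenseRange (fun (r : K → ℚ) (k : K) => (r k : ℝ)) :=
    DenseRange.piMap fun _ => Rat.denseRange_cast
  obtain ⟨r, hr⟩ := hdense.exists_mem_open hopen ⟨fun k => b k, fun i => by
    have : f (fun k => b k) i = x i := by
      simp only [f]
      exact (Finset.sum_coe_sort K (fun k => (b.repr (x i) k : ℝ) * b k)).trans (hexp i).symm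
    simp only [this, sub_self, abs_zero, hε]⟩
  refine ⟨fun i => ∑ k : K, b.repr (x i) k * r k, fun j => ?_, fun i hi => ?_, fun i => ?_⟩
  · simp only [Finset.mul_sum]
    rw [Finset.sum_comm]
    refine Finset.sum_eq_zero fun k _ => ?_
    simp only [← mul_assoc, ← Finset.sum_mul, hq, zero_mul]
  · simp [hi]
  · push_cast
    exact hr i

/-- integer linear equations with only the trivial integer solution have only the trivial real
solution -/
lemma eq_zero_of_int_injective (M : ρ → ι → ℤ)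
    (hM : ∀ q : ι → ℤ, (∀ j, ∑ i, M j i * q i = 0) → q = 0) (x : ι → ℝ)
    (hx : ∀ j, ∑ i, (M j i : ℝ) * x i = 0) : x = 0 := by
  classical
  by_contra hne
  obtain ⟨i, hi⟩ : ∃ i, x i ≠ 0 := by
    by_contra! h
    exact hne (funext h)
  obtain ⟨q, hq, -, hqε⟩ := exists_rat_solution_near M x hx |x i| (abs_pos.mpr hi)
  have hqi : q i ≠ 0 := fun h => by
    have := hqε i
    rw [h] at this
    simp at this
  let D : ℕ := ∏ i, (q i).den
  have hD : ∀ i, ∃ z : ℤ, (D : ℚ) * q i = z := fun i => by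
    refine ⟨(∏ l ∈ univ.erase i, ((q l).den : ℤ)) * (q i).num, ?_⟩
    have hsplit : (D : ℚ) = (∏ l ∈ univ.erase i, ((q l).den : ℚ)) * ((q i).den : ℚ) := by
      simp only [D, Nat.cast_prod]
      rw [Finset.prod_erase_mul _ _ (mem_univ i)]
    rw [hsplit, mul_assoc, Rat.den_mul_eq_num]
    push_cast
    rfl
  choose z hz using hD
  have hz0 := hM z fun j => by
    have hsum : (((∑ l, M j l * z l : ℤ)) : ℚ) = 0 := by
      push_cast
      simp only [← hz]
      rw [← mul_zero (D : ℚ), ← hq j, Finset.mul_sum]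
      exact Finset.sum_congr rfl fun l _ => by ring
    exact_mod_cast hsum
  have := hz i
  rw [hz0] at this
  have hDne : (D : ℚ) ≠ 0 := by
    simp only [D, Nat.cast_prod]
    exact Finset.prod_ne_zero_iff.mpr fun l _ => by exact_mod_cast (q l).den_nz
  exact hqi (by simpa [hDne] using this)

/-- a nonnegative real solution has a nonnegative integer solution of the same support -/
lemma exists_int_same_support (M : ρ → ι → ℤ) (x : ι → ℝ) (hx0 : ∀ i, 0 ≤ x i)
    (hx : ∀ j, ∑ i, (M j i : ℝ) * x i = 0) :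
    ∃ z : ι → ℤ, (∀ i, 0 ≤ z i) ∧ (∀ i, z i = 0 ↔ x i = 0) ∧ ∀ j, ∑ i, M j i * z i = 0 := by
  classical
  obtain ⟨ε, hε, hεx⟩ : ∃ ε : ℝ, 0 < ε ∧ ∀ i, x i ≠ 0 → ε ≤ x i := by
    by_cases h : (univ.filter fun i => x i ≠ 0).Nonempty
    · obtain ⟨i, hi, hmin⟩ := Finset.exists_min_image _ x h
      simp only [Finset.mem_filter, mem_univ, true_and] at hi hmin
      exact ⟨x i, (hx0 i).lt_of_ne (Ne.symm hi), hmin⟩
    · exact ⟨1, one_pos, fun i hi => absurd ⟨i, by simp [hi]⟩ h⟩
  obtain ⟨q, hq, hq0, hqε⟩ := exists_rat_solution_near M x hx ε hε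
  have hpos : ∀ i, x i ≠ 0 → 0 < q i := fun i hi => by
    have h1 := (abs_lt.mp (hqε i)).1
    have h2 := hεx i hi
    exact_mod_cast (show (0 : ℝ) < (q i : ℝ) by linarith)
  let D : ℕ := ∏ i, (q i).den
  have hsplit : ∀ i, (D : ℚ) = (∏ l ∈ univ.erase i, ((q l).den : ℚ)) * ((q i).den : ℚ) := fun i => by
    simp only [D, Nat.cast_prod]
    rw [Finset.prod_erase_mul _ _ (mem_univ i)]
  have hDpos : (0 : ℚ) < D := by
    simp only [D, Nat.cast_prod]
    exact Finset.prod_pos fun l _ => by exact_mod_cast (q l).den_pos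
  let z : ι → ℤ := fun i => (∏ l ∈ univ.erase i, ((q l).den : ℤ)) * (q i).num
  have hz : ∀ i, (z i : ℚ) = D * q i := fun i => by
    rw [hsplit i, mul_assoc, Rat.den_mul_eq_num]
    simp [z]
  refine ⟨z, fun i => ?_, fun i => ⟨fun h => ?_, fun h => ?_⟩, fun j => ?_⟩
  · have : (0 : ℚ) ≤ z i := by
      rw [hz]
      rcases eq_or_ne (x i) 0 with h | h
      · simp [hq0 i h]
      · exact mul_nonneg hDpos.le (hpos i h).le
    exact_mod_cast this
  · by_contra hne
    have h1 := hz i
    rw [h, Int.cast_zero] at h1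
    exact absurd h1 (mul_pos hDpos (hpos i hne)).ne
  · have h1 := hz i
    rw [hq0 i h, mul_zero] at h1
    exact_mod_cast h1
  · have hsum : (((∑ l, M j l * z l : ℤ)) : ℚ) = 0 := by
      push_cast
      simp only [hz]
      rw [← mul_zero (D : ℚ), ← hq j, Finset.mul_sum]
      exact Finset.sum_congr rfl fun l _ => by ring
    exact_mod_cast hsum

/-- the cone of nonnegative real solutions is generated by finitely many integer solutions -/
lemma exists_generators (M : ρ → ι → ℤ) :
    ∃ G : Finset (ι → ℤ), (∀ g ∈ G, g ≠ 0 ∧ (∀ i, 0 ≤ g i) ∧ ∀ j, ∑ i, M j i * g i = 0) ∧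
      ∀ x : ι → ℝ, (∀ i, 0 ≤ x i) → (∀ j, ∑ i, (M j i : ℝ) * x i = 0) →
        ∃ c : (ι → ℤ) → ℝ, (∀ g, 0 ≤ c g) ∧ x = ∑ g ∈ G, c g • castR g := by
  classical
  let P : Finset ι → (ι → ℤ) → Prop := fun s g =>
    (∀ i, 0 ≤ g i) ∧ (∀ i, g i ≠ 0 ↔ i ∈ s) ∧ ∀ j, ∑ i, M j i * g i = 0
  let gen : Finset ι → (ι → ℤ) := fun s => if h : ∃ g, P s g then h.choose else 0
  refine ⟨((univ : Finset ι).powerset.filter fun s => s.Nonempty ∧ ∃ g, P s g).image gen, ?_, ?_⟩
  · intro g hg
    simp only [Finset.mem_image, Finset.mem_filter] at hg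
    obtain ⟨s, ⟨-, ⟨i, hi⟩, hs⟩, rfl⟩ := hg
    have := hs.choose_spec
    simp only [gen, dif_pos hs]
    exact ⟨fun h => ((this.2.1 i).mpr hi) (by rw [h]; rfl), this.1, this.2.2⟩
  set G := ((univ : Finset ι).powerset.filter fun s => s.Nonempty ∧ ∃ g, P s g).image gen with hG
  suffices H : ∀ (n : ℕ) (x : ι → ℝ), (univ.filter fun i => x i ≠ 0).card ≤ n → (∀ i, 0 ≤ x i) →
      (∀ j, ∑ i, (M j i : ℝ) * x i = 0) →
      ∃ c : (ι → ℤ) → ℝ, (∀ g, 0 ≤ c g) ∧ x = ∑ g ∈ G, c g • castR g from
    fun x => H _ x le_rfl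
  intro n
  induction n with
  | zero =>
    intro x hcard _ _
    refine ⟨0, fun _ => le_rfl, ?_⟩
    ext i
    have : i ∉ univ.filter fun i => x i ≠ 0 := by
      rw [Finset.card_eq_zero.mp (Nat.le_zero.mp hcard)]; simp
    simpa using this
  | succ n ih =>
    intro x hcard hx0 hx
    set s := univ.filter fun i => x i ≠ 0 with hs
    rcases s.eq_empty_or_nonempty with h | hne
    · exact ih x (by rw [← hs, h]; simp) hx0 hx
    obtain ⟨z, hz0, hzs, hzM⟩ := exists_int_same_support M x hx0 hx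
    have hex : ∃ g, P s g := ⟨z, hz0, fun i => by simp [hs, hzs i], hzM⟩
    obtain ⟨g, hgdef⟩ : ∃ g, g = gen s := ⟨_, rfl⟩
    have hgP : P s g := by
      rw [hgdef]; simp only [gen, dif_pos hex]; exact hex.choose_spec
    have hgG : g ∈ G := Finset.mem_image.mpr
      ⟨s, Finset.mem_filter.mpr ⟨Finset.mem_powerset.mpr (subset_univ _), hne, hex⟩, hgdef.symm⟩
    obtain ⟨i₀, hi₀, hmin⟩ := Finset.exists_min_image s (fun i => x i / (g i : ℝ)) hne
    set t := x i₀ / (g i₀ : ℝ) with ht
    have hgpos : ∀ i ∈ s, (0 : ℝ) < g i := fun i hi => by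
      exact_mod_cast (hgP.1 i).lt_of_ne (Ne.symm ((hgP.2.1 i).mpr hi))
    have hgzero : ∀ i, i ∉ s → g i = 0 := fun i hi => by
      by_contra h
      exact hi ((hgP.2.1 i).mp h)
    have ht0 : 0 ≤ t := div_nonneg (hx0 _) (hgpos _ hi₀).le
    set x' : ι → ℝ := x - t • castR g with hx'
    have hx'0 : ∀ i, 0 ≤ x' i := fun i => by
      simp only [hx', Pi.sub_apply, Pi.smul_apply, castR_apply, smul_eq_mul, sub_nonneg]
      by_cases hi : i ∈ s
      · exact (le_div_iff₀ (hgpos i hi)).mp (hmin i hi)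
      · simp [hgzero i hi, hx0 i]
    have hx'M : ∀ j, ∑ i, (M j i : ℝ) * x' i = 0 := fun j => by
      have : ((∑ i, M j i * g i : ℤ) : ℝ) = 0 := by rw [hgP.2.2 j]; simp
      push_cast at this
      simp only [hx', Pi.sub_apply, Pi.smul_apply, castR_apply, smul_eq_mul, mul_sub,
        Finset.sum_sub_distrib, hx j, zero_sub, neg_eq_zero]
      rw [← mul_zero t, ← this, Finset.mul_sum]
      exact Finset.sum_congr rfl fun i _ => by ring
    have hcard' : (univ.filter fun i => x' i ≠ 0).card ≤ n := by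
      have hsub : (univ.filter fun i => x' i ≠ 0) ⊆ s.erase i₀ := fun i hi => by
        simp only [Finset.mem_filter, mem_univ, true_and] at hi
        refine Finset.mem_erase.mpr ⟨fun h => hi ?_, ?_⟩
        · subst h
          simp only [hx', Pi.sub_apply, Pi.smul_apply, castR_apply, smul_eq_mul, ht,
            div_mul_cancel₀ _ (hgpos _ hi₀).ne', sub_self]
        · by_contra h
          refine hi ?_
          simp only [hs, Finset.mem_filter, mem_univ, true_and, not_not] at h
          simp [hx', h, hgzero i (by simp [hs, h])]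
      have := Finset.card_le_card hsub
      rw [Finset.card_erase_of_mem hi₀] at this
      omega
    obtain ⟨c, hc0, hc⟩ := ih x' hcard' hx'0 hx'M
    refine ⟨fun a => c a + if a = g then t else 0, fun a => ?_, ?_⟩
    · dsimp only
      split_ifs
      · exact add_nonneg (hc0 a) ht0
      · simpa using hc0 a
    · simp only [add_smul, Finset.sum_add_distrib, ← hc, ite_smul, zero_smul]
      rw [Finset.sum_ite_eq' G g (fun a => t • castR a), if_pos hgG]
      simp [hx']

/-- Conic Carathéodory. -/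
lemma exists_linearIndependent_subset {α E : Type*} [AddCommGroup E] [Module ℝ E]
    (v : α → E) (t : Finset α) (c : α → ℝ) (hc : ∀ a ∈ t, 0 ≤ c a) :
    ∃ (u : Finset α) (d : α → ℝ), u ⊆ t ∧ LinearIndepOn ℝ v (u : Set α) ∧ (∀ a ∈ u, 0 < d a) ∧
      ∑ a ∈ u, d a • v a = ∑ a ∈ t, c a • v a := by
  classical
  suffices H : ∀ (n : ℕ) (t : Finset α) (c : α → ℝ), t.card ≤ n → (∀ a ∈ t, 0 ≤ c a) →
      ∃ (u : Finset α) (d : α → ℝ), u ⊆ t ∧ LinearIndepOn ℝ v (u : Set α) ∧ (∀ a ∈ u, 0 < d a) ∧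
      ∑ a ∈ u, d a • v a = ∑ a ∈ t, c a • v a from H _ t c le_rfl hc
  intro n
  induction n with
  | zero =>
    intro t c hn _
    refine ⟨∅, c, by simp, by simp, by simp, ?_⟩
    simp [Finset.card_eq_zero.mp (Nat.le_zero.mp hn)]
  | succ n ih =>
    intro t c hn hc
    by_cases hz : ∃ a ∈ t, c a = 0
    · obtain ⟨a, ha, ha0⟩ := hz
      obtain ⟨u, d, h1, h2, h3, h4⟩ := ih (t.erase a) c
        (by rw [Finset.card_erase_of_mem ha]; omega) (fun b hb => hc b (Finset.mem_of_mem_erase hb))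
      refine ⟨u, d, h1.trans (Finset.erase_subset _ _), h2, h3, h4.trans ?_⟩
      rw [← Finset.add_sum_erase t _ ha, ha0, zero_smul, zero_add]
    push Not at hz
    have hpos : ∀ a ∈ t, 0 < c a := fun a ha => (hc a ha).lt_of_ne (Ne.symm (hz a ha))
    by_cases hli : LinearIndepOn ℝ v (t : Set α)
    · exact ⟨t, c, subset_rfl, hli, hpos, rfl⟩
    rw [linearIndepOn_finset_iff] at hli
    push Not at hli
    obtain ⟨f, hf, i, hi, hfi⟩ := hli
    obtain ⟨f, hf, i, hi, hfi⟩ : ∃ f : α → ℝ, ∑ a ∈ t, f a • v a = 0 ∧ ∃ i ∈ t, 0 < f i := by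
      rcases lt_or_gt_of_ne hfi with h | h
      · exact ⟨-f, by simp [neg_smul, Finset.sum_neg_distrib, hf], i, hi, by simp [h]⟩
      · exact ⟨f, hf, i, hi, h⟩
    obtain ⟨i₀, hi₀, hmin⟩ := Finset.exists_min_image (t.filter fun a => 0 < f a) (fun a => c a / f a)
      ⟨i, by simp [hi, hfi]⟩
    simp only [Finset.mem_filter] at hi₀ hmin
    set s := c i₀ / f i₀ with hs
    have hs0 : 0 ≤ s := div_nonneg (hc _ hi₀.1) hi₀.2.le
    obtain ⟨u, d, h1, h2, h3, h4⟩ := ih (t.erase i₀) (fun a => c a - s * f a)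
      (by rw [Finset.card_erase_of_mem hi₀.1]; omega) (fun a ha => by
        have hat := Finset.mem_of_mem_erase ha
        rcases le_or_gt (f a) 0 with h | h
        · nlinarith [hc a hat]
        · linarith [(le_div_iff₀ h).mp (hmin a ⟨hat, h⟩)])
    refine ⟨u, d, h1.trans (Finset.erase_subset _ _), h2, h3, h4.trans ?_⟩
    have h0 : c i₀ - s * f i₀ = 0 := by simp [hs, div_mul_cancel₀ _ hi₀.2.ne']
    rw [Finset.sum_erase _ (by rw [h0, zero_smul])]
    simp [sub_smul, Finset.sum_sub_distrib, mul_smul, ← Finset.smul_sum, hf]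

end Groth.Agent.H21Fan
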