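import Groth.Agent.H21Fan.Bounded

/-!
# Convex subsets and quasi-concave functions
-/

universe u

namespace Groth.Agent.H21Fan

open CategoryTheory Opposite Instab Finset Limits

variable {F : Fan.{u}}

lemma exists_cell_subset {U : Set (Fan.P F)} (hU : Fan.IsRealizable U) {y : Fan.P F} (hy : y ∈ U) :
    ∃ (n : ICone) (ξ : F.obj (op n)) (v : Fan.Orth n), y = Fan.P.mk ξ v ∧ Fan.P.cell ξ ⊆ U := by
  obtain ⟨S, rfl⟩ := hU
  obtain ⟨z, rfl⟩ := hy
  obtain ⟨n, ξ, v, rfl⟩ := exists_mk z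
  refine ⟨n, ξ.1, v, rfl, ?_⟩
  rintro _ ⟨w, rfl⟩
  exact ⟨Fan.P.mk (F := S.toFunctor) ξ w, rfl⟩

/-- rational points are dense in a realizable set -/
lemma exists_rational_mem {U : Set (Fan.P F)} (hU : Fan.IsRealizable U) {O : Set U} (hO : IsOpen O)
    {y : U} (hy : y ∈ O) : ∃ z : U, z ∈ O ∧ (z : Fan.P F).IsRational := by
  obtain ⟨n, ξ, v, hyv, hcell⟩ := exists_cell_subset hU y.2
  let j : Fan.Orth n → U := fun w => ⟨Fan.P.mk ξ w, hcell ⟨w, rfl⟩⟩
  have hj : Continuous j := (continuous_mk ξ).subtype_mk _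
  have hjv : j v = y := Subtype.ext hyv.symm
  by_contra! hno
  exact mem_of_forall_rational ξ (C := (j ⁻¹' O)ᶜ) (hO.preimage hj).isClosed_compl
    (fun w hw hwO => hno _ hwO hw) v (show j v ∈ O by rw [hjv]; exact hy)

lemma basis_self {n : ICone} (i : Fin n.dim) : (Fan.Orth.basis n i).1 i = 1 := if_pos rfl

lemma basis_ne {n : ICone} {i j : Fin n.dim} (h : j ≠ i) : (Fan.Orth.basis n i).1 j = 0 := if_neg h

lemma two_zero_ne_one : (0 : Fin (Fan.two.dim : ℕ)) ≠ 1 := fun h => Nat.zero_ne_one (congrArg Fin.val h)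

/-- the segment between the two vertices of `[2]` -/
noncomputable def segPt (t : ℝ) : Fan.Orth Fan.two :=
  ⟨max (1 - t) 0 • (Fan.Orth.basis Fan.two 0).1 + max t 0 • (Fan.Orth.basis Fan.two 1).1,
    fun i => add_nonneg (mul_nonneg (le_max_right _ _) ((Fan.Orth.basis Fan.two 0).2.1 i))
      (mul_nonneg (le_max_right _ _) ((Fan.Orth.basis Fan.two 1).2.1 i)), fun h => by
      have h0 := congrFun h 0
      have h1 := congrFun h 1
      simp only [Pi.add_apply, Pi.smul_apply, smul_eq_mul, Pi.zero_apply, basis_self,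
        basis_ne two_zero_ne_one, basis_ne two_zero_ne_one.symm, mul_one, mul_zero, add_zero,
        zero_add] at h0 h1
      linarith [le_max_left (1 - t) 0, le_max_left t 0]⟩

lemma continuous_segPt : Continuous segPt := by
  refine Continuous.subtype_mk ?_ _
  exact ((by fun_prop : Continuous fun t : ℝ => max (1 - t) 0).smul continuous_const).add
    ((by fun_prop : Continuous fun t : ℝ => max t 0).smul continuous_const)

lemma segPt_zero : segPt 0 = Fan.Orth.basis Fan.two 0 := by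
  refine orth_ext ?_
  change max (1 - (0 : ℝ)) 0 • _ + max (0 : ℝ) 0 • _ = _
  rw [sub_zero, max_eq_left zero_le_one, max_self]
  exact (congrArg₂ (· + ·) (one_smul ℝ _) (zero_smul ℝ _)).trans (add_zero _)

lemma segPt_one : segPt 1 = Fan.Orth.basis Fan.two 1 := by
  refine orth_ext ?_
  change max (1 - (1 : ℝ)) 0 • _ + max (1 : ℝ) 0 • _ = _
  rw [sub_self, max_eq_left zero_le_one, max_self]
  exact (congrArg₂ (· + ·) (zero_smul ℝ _) (one_smul ℝ _)).trans (zero_add _)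

lemma segPt_eq {t : ℝ} (h0 : 0 ≤ t) (h1 : t ≤ 1) :
    (segPt t).1 = (1 - t) • (Fan.Orth.basis Fan.two 0).1 + t • (Fan.Orth.basis Fan.two 1).1 := by
  change max (1 - t) 0 • _ + max t 0 • _ = _
  rw [max_eq_left h0, max_eq_left (sub_nonneg.mpr h1)]

lemma basis_not_prop : ¬ ∃ c : ℝ, (Fan.Orth.basis Fan.two 1).1 = c • (Fan.Orth.basis Fan.two 0).1 := by
  rintro ⟨c, hc⟩
  have := congrFun hc 1
  rw [Pi.smul_apply, basis_self, basis_ne two_zero_ne_one.symm, smul_zero] at this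
  exact one_ne_zero this

/-- two distinct rational points of a convex set are joined by a segment inside it -/
lemma exists_segment {U : Set (Fan.P F)} (hU : Fan.IsConvex U) {x y : U}
    (hx : (x : Fan.P F).IsRational) (hy : (y : Fan.P F).IsRational) (hne : x ≠ y) :
    ∃ (τ : F.obj (op Fan.two)) (g : ℝ → U), Continuous g ∧ g 0 = x ∧ g 1 = y ∧
      (∀ w, Fan.P.mk τ w ∈ U) ∧ ∀ t, (g t : Fan.P F) = Fan.P.mk τ (segPt t) := by
  obtain ⟨τ, hcell, h0, h1⟩ := hU.2.2 x y x.2 y.2 hx hy fun h => hne (Subtype.ext h)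
  refine ⟨τ, fun t => ⟨Fan.P.mk τ (segPt t), hcell ⟨_, rfl⟩⟩,
    ((continuous_mk τ).comp continuous_segPt).subtype_mk _, Subtype.ext ?_, Subtype.ext ?_,
    fun w => hcell ⟨w, rfl⟩, fun _ => rfl⟩
  · exact (congrArg (Fan.P.mk τ) segPt_zero).trans h0
  · exact (congrArg (Fan.P.mk τ) segPt_one).trans h1

variable {Γ : Type*} [LinearOrder Γ]

lemma qc_segment {U : Set (Fan.P F)} {Φ : U → Γ} (hΦ : Fan.IsQuasiConcaveOn U Φ)
    {τ : F.obj (op Fan.two)} {g : ℝ → U} (hτ : ∀ w, Fan.P.mk τ w ∈ U)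
    (hg : ∀ t, (g t : Fan.P F) = Fan.P.mk τ (segPt t)) {t : ℝ} (h0 : 0 < t) (h1 : t < 1) :
    min (Φ (g 0)) (Φ (g 1)) ≤ Φ (g t) ∧
      (Φ (g t) = min (Φ (g 0)) (Φ (g 1)) → Φ (g 0) = Φ (g 1)) := by
  have key := hΦ Fan.two τ (segPt 0) (segPt t) (segPt 1) (hτ _) (hτ _) (hτ _)
    (by rw [segPt_zero, segPt_one]; exact basis_not_prop)
    ⟨1 - t, t, sub_pos.mpr h1, h0, by rw [segPt_zero, segPt_one, segPt_eq h0.le h1.le]⟩
  have e : ∀ s, g s = ⟨Fan.P.mk τ (segPt s), hτ _⟩ := fun s => Subtype.ext (hg s)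
  rw [e 0, e 1, e t]
  exact key

lemma sqc_segment {U : Set (Fan.P F)} {Φ : U → Γ} (hΦ : Fan.IsStrictQuasiConcaveOn U Φ)
    {τ : F.obj (op Fan.two)} {g : ℝ → U} (hτ : ∀ w, Fan.P.mk τ w ∈ U)
    (hg : ∀ t, (g t : Fan.P F) = Fan.P.mk τ (segPt t)) {t : ℝ} (h0 : 0 < t) (h1 : t < 1) :
    min (Φ (g 0)) (Φ (g 1)) < Φ (g t) := by
  have key := hΦ Fan.two τ (segPt 0) (segPt t) (segPt 1) (hτ _) (hτ _) (hτ _)
    (by rw [segPt_zero, segPt_one]; exact basis_not_prop)
    ⟨1 - t, t, sub_pos.mpr h1, h0, by rw [segPt_zero, segPt_one, segPt_eq h0.le h1.le]⟩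
  have e : ∀ s, g s = ⟨Fan.P.mk τ (segPt s), hτ _⟩ := fun s => Subtype.ext (hg s)
  rw [e 0, e 1, e t]
  exact key

lemma le_of_isLocalMax_rational {U : Set (Fan.P F)} (hU : Fan.IsConvex U) {Φ : U → Γ}
    (hΦ : Fan.IsQuasiConcaveOn U Φ) (hlsc : ∀ c : Γ, IsClosed {x : U | Φ x ≤ c}) {x : U}
    (hx : (x : Fan.P F).IsRational) (hmax : IsLocalMax Φ x) (y : U) : Φ y ≤ Φ x := by
  by_contra hlt
  push Not at hlt
  obtain ⟨y', hy', hyr⟩ := exists_rational_mem hU.2.1 (hlsc (Φ x)).isOpen_compl (y := y) (not_le.mpr hlt)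
  have hy'' : Φ x < Φ y' := not_le.mp hy'
  obtain ⟨τ, g, hg, hg0, hg1, hτ, hgm⟩ := exists_segment hU hx hyr fun h => hy''.ne (congrArg Φ h)
  have hev : ∀ᶠ t in nhdsWithin (0 : ℝ) (Set.Ioi 0), Φ (g t) ≤ Φ x ∧ t ∈ Set.Ioo (0 : ℝ) 1 := by
    refine Filter.Eventually.and ?_ (Ioo_mem_nhdsGT one_pos)
    have h := hg.tendsto 0
    rw [hg0] at h
    exact (h.mono_left nhdsWithin_le_nhds).eventually hmax
  obtain ⟨t, ht, ht0, ht1⟩ := hev.exists
  obtain ⟨hle, heq⟩ := qc_segment hΦ hτ hgm ht0 ht1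
  rw [hg0, hg1, min_eq_left hy''.le] at hle heq
  exact hy''.ne (heq (le_antisymm ht hle))

lemma isLocalMax_eq [TopologicalSpace Γ] [OrderTopology Γ] (hT2 : T2Space (Fan.P F))
    {U : Set (Fan.P F)} (hUc : IsCompact U) (hU : Fan.IsConvex U) {Φ : U → Γ} (hc : Continuous Φ)
    (hΦ : Fan.IsStrictQuasiConcaveOn U Φ) {x y : U} (hx : IsLocalMax Φ x) (hle : Φ x ≤ Φ y) :
    x = y := by
  by_contra hne
  haveI : CompactSpace U := isCompact_iff_compactSpace.mp hUc
  set a := Φ x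
  have hA : IsClosed {z : U | a ≤ Φ z} := isClosed_le continuous_const hc
  have hA' : IsClosed (Subtype.val '' {z : U | a ≤ Φ z}) :=
    (hA.isCompact.image continuous_subtype_val).isClosed
  set A' : Set (Fan.P F) := Subtype.val '' {z : U | a ≤ Φ z} \ {(x : Fan.P F)} with hA'def
  -- `x` is isolated in the superlevel set
  have hclosed : IsClosed A' := isClosed_iff_mk_preimage.mpr fun n ξ => by
    refine IsSeqClosed.isClosed fun v v₀ hv hlim => ?_
    have hv₀ : Fan.P.mk ξ v₀ ∈ Subtype.val '' {z : U | a ≤ Φ z} :=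
      hA'.mem_of_tendsto (((continuous_mk ξ).tendsto v₀).comp hlim)
        (Filter.Eventually.of_forall fun j => (hv j).1)
    refine ⟨hv₀, fun h0 => ?_⟩
    rw [Set.mem_singleton_iff] at h0
    have hU₀ : Fan.P.mk ξ v₀ ∈ U := h0 ▸ x.2
    have hUj : ∀ j, Fan.P.mk ξ (v j) ∈ U := fun j => by
      obtain ⟨z, -, hz⟩ := (hv j).1
      exact hz ▸ z.2
    have haj : ∀ j, a ≤ Φ ⟨_, hUj j⟩ := fun j => by
      obtain ⟨z, hz, hz'⟩ := (hv j).1
      rwa [show (⟨Fan.P.mk ξ (v j), hUj j⟩ : U) = z from Subtype.ext hz'.symm]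
    let m : ℕ → Fan.Orth n := fun j =>
      ⟨(1 / 2 : ℝ) • (v j).1 + (1 / 2 : ℝ) • v₀.1,
        fun i => add_nonneg (mul_nonneg (by norm_num) ((v j).2.1 i)) (mul_nonneg (by norm_num) (v₀.2.1 i)),
        fun h => v₀.2.2 (funext fun i => by
          have hi := congrFun h i
          simp only [Pi.add_apply, Pi.smul_apply, smul_eq_mul, Pi.zero_apply] at hi
          refine le_antisymm ?_ (v₀.2.1 i)
          have := (v j).2.1 i
          simp only [Pi.zero_apply]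
          linarith)⟩
    have hmU : ∀ j, Fan.P.mk ξ (m j) ∈ U := fun j =>
      hU.1 n ξ (v j) (m j) v₀ (hUj j) hU₀ ⟨1 / 2, 1 / 2, by norm_num, by norm_num, rfl⟩
    have hml : Filter.Tendsto m Filter.atTop (nhds v₀) := by
      refine tendsto_subtype_rng.mpr ?_
      have := (((continuous_orthVal.tendsto v₀).comp hlim).const_smul (1 / 2 : ℝ)).add
        (tendsto_const_nhds (x := (1 / 2 : ℝ) • v₀.1))
      rwa [← add_smul, show (1 / 2 : ℝ) + 1 / 2 = 1 by norm_num, one_smul] at this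
    have hmx : Filter.Tendsto (fun j => (⟨_, hmU j⟩ : U)) Filter.atTop (nhds x) := by
      refine tendsto_subtype_rng.mpr ?_
      rw [← h0]
      exact ((continuous_mk ξ).tendsto v₀).comp hml
    obtain ⟨j, hj⟩ := (hmx.eventually hx).exists
    have key := hΦ n ξ (v j) (m j) v₀ (hUj j) (hmU j) hU₀ ?_ ⟨1 / 2, 1 / 2, by norm_num, by norm_num, rfl⟩
    · rw [show (⟨Fan.P.mk ξ v₀, hU₀⟩ : U) = x from Subtype.ext h0, min_eq_right (haj j)] at key
      exact absurd hj (not_le.mpr key)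
    · rintro ⟨c, hcv⟩
      obtain ⟨i, hi⟩ : ∃ i, v₀.1 i ≠ 0 := by
        by_contra! h; exact v₀.2.2 (funext h)
      have hcpos : 0 < c := by
        have h1 := congrFun hcv i
        simp only [Pi.smul_apply, smul_eq_mul] at h1
        by_contra hle'
        push Not at hle'
        exact hi (le_antisymm (h1.trans_le (mul_nonpos_of_nonpos_of_nonneg hle' ((v j).2.1 i))) (v₀.2.1 i))
      exact (hv j).2 ((mk_eq_of_smul ξ hcpos hcv).trans h0)
  have hA'c : IsCompact A' :=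
    (hA.isCompact.image continuous_subtype_val).of_isClosed_subset hclosed Set.sdiff_subset
  obtain ⟨V, V', hV, hV', hxV, hAV', hdisj⟩ :=
    SeparatedNhds.of_isCompact_isCompact (isCompact_singleton (x := (x : Fan.P F))) hA'c
      (Set.disjoint_singleton_left.mpr fun h => h.2 rfl)
  let K : Set U := (Subtype.val ⁻¹' (V ∪ V'))ᶜ
  have hKc : IsClosed K := ((hV.union hV').preimage continuous_subtype_val).isClosed_compl
  have hK : ∀ k ∈ K, Φ k < a := fun k hk => by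
    by_contra hka
    push Not at hka
    refine hk ?_
    by_cases hkx : (k : Fan.P F) = x
    · exact Or.inl (hkx ▸ hxV rfl)
    · exact Or.inr (hAV' ⟨⟨k, hka, rfl⟩, hkx⟩)
  let W : Set U := {z | ∀ k ∈ K, Φ k < Φ z}
  have hW : IsOpen W := by
    rcases K.eq_empty_or_nonempty with h | h
    · simp [W, h]
    · obtain ⟨k₀, hk₀, hmaxk⟩ := hKc.isCompact.exists_isMaxOn h hc.continuousOn
      have : W = Φ ⁻¹' Set.Ioi (Φ k₀) := by
        ext z
        exact ⟨fun hz => hz k₀ hk₀, fun hz k hk => lt_of_le_of_lt (hmaxk hk) hz⟩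
      rw [this]
      exact isOpen_Ioi.preimage hc
  have hxW : x ∈ W := fun k hk => hK k hk
  have hyW : y ∈ W := fun k hk => (hK k hk).trans_le hle
  have hyV' : (y : Fan.P F) ∈ V' := hAV' ⟨⟨y, hle, rfl⟩, fun h => hne (Subtype.ext h).symm⟩
  obtain ⟨x', ⟨hx'W, hx'V⟩, hx'r⟩ := exists_rational_mem hU.2.1
    (hW.inter (hV.preimage continuous_subtype_val)) (y := x) ⟨hxW, hxV rfl⟩
  obtain ⟨y', ⟨hy'W, hy'V⟩, hy'r⟩ := exists_rational_mem hU.2.1
    (hW.inter (hV'.preimage continuous_subtype_val)) (y := y) ⟨hyW, hyV'⟩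
  obtain ⟨τ, g, hg, hg0, hg1, hτ, hgm⟩ := exists_segment hU hx'r hy'r
    fun h => Set.disjoint_left.mp hdisj hx'V (h ▸ hy'V)
  have hgW : ∀ t ∈ Set.Icc (0 : ℝ) 1, g t ∈ W := fun t ht k hk => by
    rcases eq_or_lt_of_le ht.1 with rfl | h0
    · rw [hg0]; exact hx'W k hk
    rcases eq_or_lt_of_le ht.2 with rfl | h1
    · rw [hg1]; exact hy'W k hk
    refine lt_trans ?_ (sqc_segment hΦ hτ hgm h0 h1)
    rw [hg0, hg1]
    exact lt_min (hx'W k hk) (hy'W k hk)
  obtain ⟨_, ⟨t, ht, rfl⟩, h1, h2⟩ :=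
    (isPreconnected_Icc.image g hg.continuousOn) _ _ (hV.preimage continuous_subtype_val)
      (hV'.preimage continuous_subtype_val)
      (by
        rintro _ ⟨t, ht, rfl⟩
        by_contra hno
        exact (hgW t ht _ hno).false)
      ⟨x', ⟨0, Set.left_mem_Icc.mpr zero_le_one, hg0⟩, hx'V⟩
      ⟨y', ⟨1, Set.right_mem_Icc.mpr zero_le_one, hg1⟩, hy'V⟩
  exact Set.disjoint_left.mp hdisj h1 h2

end Groth.Agent.H21Fan
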