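import Groth.Agent.H21Fan.Cone
import Groth.Prelude.Def_W4c6instabfans3FanCvx
import Mathlib.LinearAlgebra.Pi
import Mathlib.LinearAlgebra.LinearIndependent.Lemmas

/-!
# Real extensions of lattice maps and common sub-cones
-/

namespace Groth.Agent.H21Fan

open CategoryTheory Opposite Instab Finset

variable {k l N : ℕ}

/-- the real linear map extending an additive map of lattices -/
noncomputable def realLin (a : (Fin k → ℤ) →ₗ[ℤ] (Fin N → ℤ)) :
    (Fin k → ℝ) →ₗ[ℝ] (Fin N → ℝ) where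
  toFun v := fun j => ∑ i, (a (Pi.single i 1) j : ℝ) * v i
  map_add' v w := by
    ext j
    simp [mul_add, Finset.sum_add_distrib]
  map_smul' c v := by
    ext j
    simp only [Pi.smul_apply, smul_eq_mul, RingHom.id_apply, Finset.mul_sum]
    exact Finset.sum_congr rfl fun i _ => by ring

lemma realLin_apply (a : (Fin k → ℤ) →ₗ[ℤ] (Fin N → ℤ)) (v : Fin k → ℝ) (j : Fin N) :
    realLin a v j = ∑ i, (a (Pi.single i 1) j : ℝ) * v i := rfl

lemma sum_mul_single (a : (Fin k → ℤ) →ₗ[ℤ] (Fin N → ℤ)) (q : Fin k → ℤ) (j : Fin N) :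
    a q j = ∑ i, a (Pi.single i 1) j * q i := by
  conv_lhs => rw [pi_eq_sum_univ' q]
  rw [map_sum, Finset.sum_apply]
  exact Finset.sum_congr rfl fun i _ => by rw [map_smul, Pi.smul_apply, smul_eq_mul, mul_comm]

lemma realLin_castR (a : (Fin k → ℤ) →ₗ[ℤ] (Fin N → ℤ)) (q : Fin k → ℤ) :
    realLin a (castR q) = castR (a q) := by
  ext j
  rw [realLin_apply, castR_apply, sum_mul_single a q j]
  push_cast
  rfl

lemma realLin_id (v : Fin k → ℝ) :
    realLin (LinearMap.id : (Fin k → ℤ) →ₗ[ℤ] (Fin k → ℤ)) v = v := by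
  ext j
  simp [realLin_apply, Pi.single_apply]

lemma realLin_comp (a : (Fin l → ℤ) →ₗ[ℤ] (Fin N → ℤ)) (b : (Fin k → ℤ) →ₗ[ℤ] (Fin l → ℤ))
    (v : Fin k → ℝ) : realLin (a.comp b) v = realLin a (realLin b v) := by
  ext j
  simp only [realLin_apply, LinearMap.comp_apply, Finset.mul_sum]
  rw [Finset.sum_comm]
  refine Finset.sum_congr rfl fun i _ => ?_
  rw [sum_mul_single a (b (Pi.single i 1)) j]
  push_cast
  rw [Finset.sum_mul]
  exact Finset.sum_congr rfl fun i' _ => by ring

lemma realLin_injective (a : (Fin k → ℤ) →ₗ[ℤ] (Fin N → ℤ)) (ha : Function.Injective a) :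
    Function.Injective (realLin a) := by
  refine (injective_iff_map_eq_zero _).mpr fun v hv => ?_
  refine eq_zero_of_int_injective (fun j i => a (Pi.single i 1) j) (fun q hq => ?_) v
    (fun j => congrFun hv j)
  exact ha (by rw [map_zero]; ext j; rw [sum_mul_single a q j]; exact hq j)

lemma continuous_realLin (a : (Fin k → ℤ) →ₗ[ℤ] (Fin N → ℤ)) : Continuous (realLin a) := by
  refine continuous_pi fun j => ?_
  simp only [realLin_apply]
  refine continuous_finsetSum _ fun i _ => ?_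
  exact continuous_const.mul (continuous_apply i)

/-- Columns as a lattice map. -/
noncomputable def colMap {d : ℕ} (g : Fin d → Fin N → ℤ) : (Fin d → ℤ) →ₗ[ℤ] (Fin N → ℤ) :=
  Fintype.linearCombination ℤ g

lemma colMap_single {d : ℕ} (g : Fin d → Fin N → ℤ) (i : Fin d) :
    colMap g (Pi.single i 1) = g i := by
  simp [colMap, Fintype.linearCombination_apply_single]

lemma colMap_apply {d : ℕ} (g : Fin d → Fin N → ℤ) (q : Fin d → ℤ) :
    colMap g q = ∑ i, q i • g i := Fintype.linearCombination_apply ℤ g q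

lemma realLin_colMap {d : ℕ} (g : Fin d → Fin N → ℤ) (v : Fin d → ℝ) :
    realLin (colMap g) v = ∑ i, v i • castR (g i) := by
  ext j
  simp [realLin_apply, colMap_single, Finset.sum_apply, mul_comm]

section ICone

variable {a b c : ICone}

lemma realMap_eq (φ : a ⟶ b) (v : Fin a.dim → ℝ) : φ.realMap v = realLin φ.toLin v := rfl

@[simp] lemma realMap_id (v : Fin a.dim → ℝ) : ICone.Hom.realMap (𝟙 a) v = v :=
  realLin_id v

lemma realMap_comp (φ : a ⟶ b) (ψ : b ⟶ c) (v : Fin a.dim → ℝ) :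
    ICone.Hom.realMap (φ ≫ ψ) v = ψ.realMap (φ.realMap v) :=
  realLin_comp ψ.toLin φ.toLin v

lemma realMap_injective (φ : a ⟶ b) : Function.Injective (φ.realMap) :=
  realLin_injective φ.toLin φ.injective

lemma realMap_smul (φ : a ⟶ b) (t : ℝ) (v : Fin a.dim → ℝ) :
    φ.realMap (t • v) = t • φ.realMap v :=
  (realLin φ.toLin).map_smul t v

lemma continuous_realMap (φ : a ⟶ b) : Continuous φ.realMap := continuous_realLin φ.toLin

lemma realMap_nonneg (φ : a ⟶ b) {v : Fin a.dim → ℝ} (hv : ∀ i, 0 ≤ v i) (j : Fin b.dim) :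
    0 ≤ φ.realMap v j :=
  Finset.sum_nonneg fun i _ => mul_nonneg (Int.cast_nonneg (φ.nonneg _ (fun i' => by
    by_cases h : i' = i <;> simp [h]) j)) (hv i)

/-- the image of a point of the punctured orthant under a cone morphism -/
noncomputable def orthMap (φ : a ⟶ b) (v : Fan.Orth a) : Fan.Orth b :=
  ⟨φ.realMap v.1, realMap_nonneg φ v.2.1, fun h => v.2.2 (realMap_injective φ (h.trans (by
    exact ((realLin φ.toLin).map_zero).symm)))⟩

/-- positive multiples of a point of the punctured orthant -/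
noncomputable def orthSmul (t : ℝ) (ht : 0 < t) (v : Fan.Orth a) : Fan.Orth a :=
  ⟨t • v.1, fun i => mul_nonneg ht.le (v.2.1 i), smul_ne_zero ht.ne' v.2.2⟩

end ICone

/-- If two lattice cones in `ℤ^N` contain a common real point, they contain a common integral
simplicial sub-cone through that point. -/
lemma exists_common_subcone {n₁ n₂ : ICone}
    (A : (Fin n₁.dim → ℤ) →ₗ[ℤ] (Fin N → ℤ)) (B : (Fin n₂.dim → ℤ) →ₗ[ℤ] (Fin N → ℤ))
    (hA : Function.Injective A) (hB : Function.Injective B)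
    (v₁ : Fin n₁.dim → ℝ) (v₂ : Fin n₂.dim → ℝ) (h₁ : ∀ i, 0 ≤ v₁ i) (h₂ : ∀ i, 0 ≤ v₂ i)
    (hne : v₁ ≠ 0) (h : realLin A v₁ = realLin B v₂) :
    ∃ (k : ICone) (φ₁ : k ⟶ n₁) (φ₂ : k ⟶ n₂) (y : Fan.Orth k),
      A.comp φ₁.toLin = B.comp φ₂.toLin ∧ φ₁.realMap y.1 = v₁ ∧ φ₂.realMap y.1 = v₂ := by
  classical
  let M : Fin N → (Fin n₁.dim ⊕ Fin n₂.dim) → ℤ := fun j i =>
    Sum.elim (fun i => A (Pi.single i 1) j) (fun i => -B (Pi.single i 1) j) i
  let x : Fin n₁.dim ⊕ Fin n₂.dim → ℝ := Sum.elim v₁ v₂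
  have hxM : ∀ j, ∑ i, (M j i : ℝ) * x i = 0 := fun j => by
    have := congrFun h j
    simp only [realLin_apply] at this
    simp [Fintype.sum_sum_type, M, x, this]
  obtain ⟨G, hG, hgen⟩ := exists_generators M
  obtain ⟨c, hc, hcx⟩ := hgen x (fun i => by rcases i with i | i; exacts [h₁ i, h₂ i]) hxM
  obtain ⟨s, d, hsG, hli, hd, hds⟩ :=
    exists_linearIndependent_subset (castR : _ → Fin n₁.dim ⊕ Fin n₂.dim → ℝ) G c fun g _ => hc g
  rw [← hcx] at hds
  have hs0 : 0 < s.card := by
    refine Finset.card_pos.mpr (Finset.nonempty_iff_ne_empty.mpr fun he => hne ?_)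
    subst he
    funext i
    have := congrFun hds (Sum.inl i)
    simpa [x] using this.symm
  let e := s.equivFin.symm
  let g : Fin s.card → Fin n₁.dim ⊕ Fin n₂.dim → ℤ := fun i => (e i).1
  have hgG : ∀ i, g i ≠ 0 ∧ (∀ l, 0 ≤ g i l) ∧ ∀ j, ∑ l, M j l * g i l = 0 := fun i =>
    hG _ (hsG (e i).2)
  let p₁ : (Fin s.card → ℤ) →ₗ[ℤ] (Fin n₁.dim → ℤ) := colMap fun i l => g i (Sum.inl l)
  let p₂ : (Fin s.card → ℤ) →ₗ[ℤ] (Fin n₂.dim → ℤ) := colMap fun i l => g i (Sum.inr l)
  have hcomp : A.comp p₁ = B.comp p₂ := by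
    refine LinearMap.pi_ext' fun i => LinearMap.ext_ring ?_
    ext j
    have := (hgG i).2.2 j
    simp only [M, Fintype.sum_sum_type, Sum.elim_inl, Sum.elim_inr, neg_mul,
      Finset.sum_neg_distrib, ← sub_eq_add_neg, sub_eq_zero] at this
    simp only [p₁, p₂, LinearMap.comp_apply, LinearMap.single_apply, colMap_single]
    rw [sum_mul_single A, sum_mul_single B]
    exact this
  have hinj : Function.Injective p₁ := by
    refine (injective_iff_map_eq_zero _).mpr fun q hq => ?_
    have hq2 : p₂ q = 0 := hB (by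
      rw [map_zero]
      exact (LinearMap.congr_fun hcomp q).symm.trans (by simp [hq]))
    have hsum : ∑ i, (q i : ℝ) • castR (g i) = 0 := by
      funext l
      rcases l with l | l
      · have := congrFun hq l
        simp only [p₁, colMap_apply, Finset.sum_apply, Pi.smul_apply, smul_eq_mul,
          Pi.zero_apply] at this
        simp only [Finset.sum_apply, Pi.smul_apply, castR_apply, smul_eq_mul, Pi.zero_apply]
        exact_mod_cast this
      · have := congrFun hq2 l
        simp only [p₂, colMap_apply, Finset.sum_apply, Pi.smul_apply, smul_eq_mul,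
          Pi.zero_apply] at this
        simp only [Finset.sum_apply, Pi.smul_apply, castR_apply, smul_eq_mul, Pi.zero_apply]
        exact_mod_cast this
    have hli' : LinearIndependent ℝ fun i => castR (g i) := hli.linearIndependent.comp _ e.injective
    funext i
    exact_mod_cast Fintype.linearIndependent_iff.mp hli' _ hsum i
  have hinj₂ : Function.Injective p₂ := fun q q' he => hinj (hA (by
    rw [← LinearMap.comp_apply A p₁, ← LinearMap.comp_apply A p₁, hcomp]
    simp [he]))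
  have hnn : ∀ (d : ℕ) (col : Fin s.card → Fin d → ℤ), (∀ i l, 0 ≤ col i l) →
      ∀ q : Fin s.card → ℤ, (∀ i, 0 ≤ q i) → ∀ l, 0 ≤ colMap col q l := by
    intro d col hcol q hq l
    rw [colMap_apply, Finset.sum_apply]
    exact Finset.sum_nonneg fun i _ => mul_nonneg (hq i) (hcol i l)
  let y : Fin s.card → ℝ := fun i => d (e i).1
  have hy : ∑ i, y i • castR (g i) = x := by
    rw [← hds, ← Finset.sum_coe_sort s]
    exact Equiv.sum_comp e (fun a : s => d a.1 • castR a.1)
  refine ⟨⟨⟨s.card, hs0⟩⟩, ⟨p₁, hinj, hnn _ _ fun i l => (hgG i).2.1 _⟩,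
    ⟨p₂, hinj₂, hnn _ _ fun i l => (hgG i).2.1 _⟩,
    ⟨y, fun i => (hd _ (e i).2).le, fun h0 => (hd _ (e ⟨0, hs0⟩).2).ne'
      (congrFun h0 ⟨0, hs0⟩)⟩, hcomp, ?_, ?_⟩
  · funext l
    have := congrFun hy (Sum.inl l)
    refine (congrFun (realLin_colMap _ y) l).trans ?_
    simpa [Finset.sum_apply, x] using this
  · funext l
    have := congrFun hy (Sum.inr l)
    refine (congrFun (realLin_colMap _ y) l).trans ?_
    simpa [Finset.sum_apply, x] using this

end Groth.Agent.H21Fan
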