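import Groth.Agent.H21Fan.Bounded

/-!
# The fan of a family of rational polyhedral cones and the space of rays
-/

namespace Groth.Agent.H21Fan

open CategoryTheory Opposite Instab Finset

variable {N : ℕ}

/-- the point of the unit sphere on a ray -/
noncomputable def rayNormalize : Fan.Rays N → (Fin N → ℝ) :=
  Quot.lift (fun v => ‖v.1‖⁻¹ • v.1) (by
    rintro v w ⟨c, hc, h⟩
    simp only [h, norm_smul, Real.norm_of_nonneg hc.le, mul_inv, smul_smul]
    congr 1
    rw [mul_right_comm, inv_mul_cancel₀ hc.ne', one_mul])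

lemma rayNormalize_mk (v : {v : Fin N → ℝ // v ≠ 0}) :
    rayNormalize (Quot.mk _ v) = ‖v.1‖⁻¹ • v.1 := rfl

lemma exists_smul_of_ray_eq {v w : {v : Fin N → ℝ // v ≠ 0}}
    (h : (Quot.mk _ v : Fan.Rays N) = Quot.mk _ w) : ∃ c : ℝ, 0 < c ∧ w.1 = c • v.1 := by
  have h' := congrArg rayNormalize h
  rw [rayNormalize_mk, rayNormalize_mk] at h'
  refine ⟨‖w.1‖ * ‖v.1‖⁻¹, by
    have := norm_pos_iff.mpr v.2
    have := norm_pos_iff.mpr w.2
    positivity, ?_⟩
  rw [mul_smul, h', smul_smul, mul_inv_cancel₀ (norm_ne_zero_iff.mpr w.2), one_smul]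

lemma rayNormalize_injective : Function.Injective (rayNormalize : Fan.Rays N → _) := by
  intro a b h
  induction a using Quot.ind with | mk v => ?_
  induction b using Quot.ind with | mk w => ?_
  rw [rayNormalize_mk, rayNormalize_mk] at h
  refine Quot.sound ⟨‖w.1‖ * ‖v.1‖⁻¹, by
    have := norm_pos_iff.mpr v.2
    have := norm_pos_iff.mpr w.2
    positivity, ?_⟩
  rw [mul_smul, h, smul_smul, mul_inv_cancel₀ (norm_ne_zero_iff.mpr w.2), one_smul]

lemma continuous_rayNormalize : Continuous (rayNormalize : Fan.Rays N → _) := by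
  refine continuous_quot_lift _ ?_
  exact ((continuous_norm.comp continuous_subtype_val).inv₀
    fun v => norm_ne_zero_iff.mpr v.2).smul continuous_subtype_val

lemma t2Space_rays : T2Space (Fan.Rays N) :=
  T2Space.of_injective_continuous rayNormalize_injective continuous_rayNormalize

/-- the columns of a linearly independent finite set of lattice vectors -/
noncomputable def setCol (s : Finset (Fin N → ℤ)) : Fin s.card → Fin N → ℤ :=
  fun i => (s.equivFin.symm i).1

variable {ι : Type} (K : ι → Set (Fin N → ℝ))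

/-- The hypothesis on the family of cones -/
def IsRatPoly : Prop :=
  ∀ a, ∃ (m : ℕ) (gen : Fin m → Finset (Fin N → ℤ)),
      K a = Set.iUnion fun l => {x | ∃ c : (Fin N → ℤ) → ℝ, (∀ g, 0 ≤ c g) ∧
        x = Finset.sum (gen l) fun g => c g • fun j => (g j : ℝ)}

lemma exists_simplices (hK : IsRatPoly K) (a : ι) :
    ∃ T : Finset (Finset (Fin N → ℤ)),
      (∀ s ∈ T, LinearIndepOn ℝ (castR (ι := Fin N)) (s : Set (Fin N → ℤ))) ∧
      (∀ s ∈ T, ∀ d : Fin s.card → ℝ, (∀ i, 0 ≤ d i) → ∑ i, d i • castR (setCol s i) ∈ K a) ∧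
      ∀ w ∈ K a, ∃ s ∈ T, ∃ d : Fin s.card → ℝ,
        (∀ i, 0 < d i) ∧ w = ∑ i, d i • castR (setCol s i) := by
  classical
  obtain ⟨m, gen, hgen⟩ := hK a
  refine ⟨(univ.biUnion fun l => (gen l).powerset).filter
    fun s => LinearIndepOn ℝ (castR (ι := Fin N)) (s : Set (Fin N → ℤ)),
    fun s hs => (Finset.mem_filter.mp hs).2, fun s hs d hd => ?_, fun w hw => ?_⟩
  · obtain ⟨l, -, hl⟩ := Finset.mem_biUnion.mp (Finset.mem_filter.mp hs).1
    rw [Finset.mem_powerset] at hl
    rw [hgen]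
    refine Set.mem_iUnion.mpr ⟨l, fun g => if h : g ∈ s then d (s.equivFin ⟨g, h⟩) else 0,
      fun g => ?_, ?_⟩
    · dsimp only
      split_ifs
      · exact hd _
      · exact le_rfl
    · rw [← Finset.sum_subset hl fun g _ hg => by simp [hg], ← Finset.sum_coe_sort s]
      refine (Equiv.sum_comp s.equivFin.symm _).symm.trans ?_ |>.symm
      refine Finset.sum_congr rfl fun i _ => ?_
      simp [setCol]
      rfl
  · rw [hgen] at hw
    obtain ⟨l, c, hc, rfl⟩ := Set.mem_iUnion.mp hw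
    obtain ⟨u, d, hu, hli, hd, he⟩ :=
      exists_linearIndependent_subset (castR (ι := Fin N)) (gen l) c fun g _ => hc g
    refine ⟨u, Finset.mem_filter.mpr ⟨Finset.mem_biUnion.mpr ⟨l, mem_univ _,
      Finset.mem_powerset.mpr hu⟩, hli⟩, fun i => d (setCol u i), fun i => hd _ (u.equivFin.symm i).2, ?_⟩
    refine he.symm.trans ((Finset.sum_coe_sort u _).symm.trans ?_)
    exact (Equiv.sum_comp u.equivFin.symm (fun g : u => d g.1 • castR g.1)).symm

lemma isClosed_cone (hK : IsRatPoly K) (a : ι) : IsClosed (K a) := by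
  classical
  obtain ⟨T, hli, hmem, hcov⟩ := exists_simplices K hK a
  have : K a = ⋃ s ∈ T, (fun d : Fin s.card → ℝ => ∑ i, d i • castR (setCol s i)) ''
      {d | ∀ i, 0 ≤ d i} := by
    ext w
    simp only [Set.mem_iUnion, Set.mem_image, Set.mem_ofPred, exists_prop]
    refine ⟨fun hw => ?_, fun ⟨s, hs, d, hd, hdw⟩ => hdw ▸ hmem s hs d hd⟩
    obtain ⟨s, hs, d, hd, rfl⟩ := hcov w hw
    exact ⟨s, hs, d, fun i => (hd i).le, rfl⟩
  rw [this]
  refine T.finite_toSet.isClosed_biUnion fun s hs => ?_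
  have hLI : LinearIndependent ℝ fun i => castR (setCol s i) :=
    (hli s hs).linearIndependent.comp _ s.equivFin.symm.injective
  refine ((Fintype.linearCombination ℝ fun i => castR (setCol s i)).isClosedEmbedding_of_injective
    (LinearMap.ker_eq_bot.mpr hLI.fintypeLinearCombination_injective)).isClosedMap _ ?_
  rw [Set.ofPred_forall]
  exact isClosed_iInter fun i => isClosed_le continuous_const (continuous_apply i)

lemma toVec_eq (n : ICone) (φ : RFan.Cone K n) (v : Fin n.dim → ℝ) :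
    RFan.toVec K n φ v = realLin φ.1 v := rfl

lemma toVec_ne_zero (n : ICone) (φ : RFan.Cone K n) (v : Fan.Orth n) :
    RFan.toVec K n φ v.1 ≠ 0 := fun h =>
  v.2.2 (realLin_injective φ.1 φ.2.1 (h.trans (realLin φ.1).map_zero.symm))

/-- the map to the space of rays -/
noncomputable def toRays : Fan.P (RFan K) → Fan.Rays N :=
  Quot.lift (fun p => Quot.mk _ ⟨RFan.toVec K p.1.1 p.1.2 p.2.1, toVec_ne_zero K _ _ p.2⟩) (by
    rintro _ _ ⟨ψ, ξ, v, w, c, hc, h⟩
    refine Quot.sound ⟨c, hc, ?_⟩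
    simp only [toVec_eq]
    rw [h, map_smul, realMap_eq]
    congr 1
    exact (realLin_comp ξ.1 ψ.toLin v.1).symm)

lemma toRays_mk {n : ICone} (φ : (RFan K).obj (op n)) (v : Fan.Orth n) :
    toRays K (Fan.P.mk φ v) = Quot.mk _ ⟨RFan.toVec K n φ v.1, toVec_ne_zero K n φ v⟩ := rfl

lemma continuous_toRays : Continuous (toRays K) := by
  refine continuous_quot_lift _ (continuous_sigma fun e => ?_)
  exact continuous_quot_mk.comp
    (((continuous_realLin e.2.1).comp continuous_orthVal).subtype_mk _)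

lemma toRays_injective : Function.Injective (toRays K) := by
  intro x x' h
  obtain ⟨n, φ, v, rfl⟩ := exists_mk x
  obtain ⟨n', φ', v', rfl⟩ := exists_mk x'
  obtain ⟨c, hc, hcv⟩ := exists_smul_of_ray_eq h
  obtain ⟨k, χ, χ', y, hcomp, hy, hy'⟩ := exists_common_subcone φ.1 φ'.1 φ.2.1 φ'.2.1
    (c • v.1) v'.1 (fun i => mul_nonneg hc.le (v.2.1 i)) v'.2.1 (smul_ne_zero hc.ne' v.2.2)
    (by rw [map_smul]; exact hcv.symm)
  refine mk_eq_of_subcone (F := RFan K) χ χ' (Subtype.ext hcomp) y (inv_pos.mpr hc) one_pos ?_ ?_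
  · rw [hy, smul_smul, inv_mul_cancel₀ hc.ne', one_smul]
  · rw [one_smul, hy']

lemma toVec_mem (hK : IsRatPoly K) {n : ICone} (φ : RFan.Cone K n) (v : Fan.Orth n) :
    RFan.toVec K n φ v.1 ∈ Set.iUnion K := by
  obtain ⟨a, ha⟩ := φ.2.2
  obtain ⟨q, hq, hq0, ht⟩ := exists_int_approx_orth v
  refine Set.mem_iUnion.mpr ⟨a, (isClosed_cone K hK a).mem_of_tendsto
    (((continuous_realLin φ.1).comp continuous_orthVal).tendsto v |>.comp ht)
    (Filter.Eventually.of_forall fun m => ?_)⟩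
  change realLin φ.1 (((m : ℝ) + 1)⁻¹ • castR (q m)) ∈ K a
  rw [map_smul, realLin_castR]
  have h0 := ha (q m) (hq m)
  obtain ⟨m', gen, hgen⟩ := hK a
  rw [hgen] at h0 ⊢
  obtain ⟨l, c, hc, he⟩ := Set.mem_iUnion.mp h0
  refine Set.mem_iUnion.mpr ⟨l, fun g => ((m : ℝ) + 1)⁻¹ * c g,
    fun g => mul_nonneg (by positivity) (hc g), ?_⟩
  simp only [mul_smul, ← Finset.smul_sum]
  exact congrArg _ he

lemma colMap_setCol_injective {s : Finset (Fin N → ℤ)}
    (h : LinearIndepOn ℝ (castR (ι := Fin N)) (s : Set (Fin N → ℤ))) :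
    Function.Injective (colMap (setCol s)) := fun q q' hqq' => by
  refine castR_injective (LinearIndependent.fintypeLinearCombination_injective
    (v := fun i => castR (setCol s i)) (h.linearIndependent.comp _ s.equivFin.symm.injective) ?_)
  have h' := congrArg castR hqq'
  rw [← realLin_castR, ← realLin_castR, realLin_colMap, realLin_colMap] at h'
  exact h'

lemma exists_cover_rfan [Finite ι] (hK : IsRatPoly K) :
    ∃ s : Finset (Σ n : ICone, (RFan K).obj (op n)),
      ∀ w : {w : Fin N → ℝ // w ≠ 0}, w.1 ∈ Set.iUnion K →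
        ∃ e ∈ s, ∃ v : Fan.Orth e.1, toRays K (Fan.P.mk e.2 v) = Quot.mk _ w := by
  classical
  cases nonempty_fintype ι
  choose T hli hmem hcov using exists_simplices K hK
  let cone : ∀ p : (Σ a : ι, {s : Finset (Fin N → ℤ) // s ∈ T a ∧ 0 < s.card}),
      Σ n : ICone, (RFan K).obj (op n) := fun p =>
    ⟨⟨⟨p.2.1.card, p.2.2.2⟩⟩, colMap (setCol p.2.1), by
      exact colMap_setCol_injective (hli p.1 p.2.1 p.2.2.1),
      p.1, fun q hq => by
        have := hmem p.1 p.2.1 p.2.2.1 (castR q) fun i => Int.cast_nonneg (hq i)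
        exact Set.mem_of_eq_of_mem
          ((realLin_castR _ q).symm.trans (realLin_colMap (setCol p.2.1) (castR q))) this⟩
  haveI : ∀ a : ι, Finite {s : Finset (Fin N → ℤ) // s ∈ T a ∧ 0 < s.card} := fun a =>
    Finite.of_injective (fun s => (⟨s.1, s.2.1⟩ : T a)) fun s s' h =>
      Subtype.ext (congrArg (fun x : T a => x.1) h)
  haveI := Fintype.ofFinite (Σ a : ι, {s : Finset (Fin N → ℤ) // s ∈ T a ∧ 0 < s.card})
  refine ⟨univ.image cone, fun w hw => ?_⟩
  obtain ⟨a, ha⟩ := Set.mem_iUnion.mp hw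
  obtain ⟨s, hs, d, hd, hwd⟩ := hcov a w.1 ha
  have hs0 : 0 < s.card := by
    by_contra h0
    haveI : IsEmpty (Fin s.card) := by
      rw [Nat.le_zero.mp (not_lt.mp h0)]; exact Fin.isEmpty'
    exact w.2 (hwd.trans (by simp))
  refine ⟨cone ⟨a, s, hs, hs0⟩, mem_image_of_mem _ (mem_univ _),
    ⟨d, fun i => (hd i).le, fun h => (hd ⟨0, hs0⟩).ne' (congrFun h ⟨0, hs0⟩)⟩, ?_⟩
  refine (toRays_mk K _ _).trans (congrArg _ ?_)
  exact Subtype.ext ((realLin_colMap _ d).trans hwd.symm)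

lemma range_toRays [Finite ι] (hK : IsRatPoly K) :
    Set.range (toRays K) =
      {r | ∃ w : {w : Fin N → ℝ // w ≠ 0}, r = Quot.mk _ w ∧ w.1 ∈ Set.iUnion K} := by
  obtain ⟨s, hs⟩ := exists_cover_rfan K hK
  ext r
  constructor
  · rintro ⟨x, rfl⟩
    obtain ⟨n, φ, v, rfl⟩ := exists_mk x
    exact ⟨_, rfl, toVec_mem K hK φ v⟩
  · rintro ⟨w, rfl, hw⟩
    obtain ⟨e, -, v, hv⟩ := hs w hw
    exact ⟨_, hv⟩

lemma isEmbedding_toRays [Finite ι] (hK : IsRatPoly K) : Topology.IsEmbedding (toRays K) := by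
  obtain ⟨s, hs⟩ := exists_cover_rfan K hK
  haveI : CompactSpace (Fan.P (RFan K)) := by
    refine ⟨?_⟩
    have : (Set.univ : Set (Fan.P (RFan K))) = ⋃ e ∈ s, Fan.P.mk e.2 '' simplex e.1 := by
      refine Set.eq_univ_of_forall (fun x => ?_) |>.symm
      obtain ⟨n, φ, v, rfl⟩ := exists_mk x
      obtain ⟨e, he, u, hu⟩ := hs ⟨RFan.toVec K n φ v.1, toVec_ne_zero K n φ v⟩ (toVec_mem K hK φ v)
      obtain ⟨u', hu', hu''⟩ := mk_mem_cell_normalized e.2 ⟨u, rfl⟩
      exact Set.mem_biUnion he ⟨u', hu', hu''.trans (toRays_injective K hu)⟩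
    rw [this]
    exact s.finite_toSet.isCompact_biUnion fun e _ => (isCompact_simplex e.1).image (continuous_mk _)
  haveI := t2Space_rays (N := N)
  exact ((continuous_toRays K).isClosedEmbedding (toRays_injective K)).isEmbedding

end Groth.Agent.H21Fan
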